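import Cfsg.Agent.Lib.CoreKill.NoIndexTwo
import Cfsg.Agent.Lib.Components.FStar
import Cfsg.Agent.S1292
import Cfsg.Prelude.Def_Involutions

/-!
Groups with 2-constrained involution centralizers: trivial cores and characteristic 2 type, given the
theorem on cores of strongly embedded subgroups (statements S0504, S1296, S3109, S3332).
-/

set_option autoImplicit false

namespace CfsgLib.CoreKill

open Subgroup CfsgLib.SignalizerConn42 CfsgLib.FTCons

universe u

variable {G : Type u} [Group G] [Finite G]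

theorem pLayer_eq_bot_of_no_component {K : Type u} [Group K]
    (h : ¬ Cfsg.HasComponent (K ⧸ Cfsg.oddCore K)) : Cfsg.pLayer 2 K = ⊥ :=
  le_bot_iff.1 (sSup_le fun L hL => absurd ⟨_, hL.2.1⟩ h)

theorem constrainedCentralizers_of_not_componentType (h : ¬ Cfsg.IsComponentType G) :
    ConstrainedCentralizers G := fun t ht => by
  have : Fact (Nat.Prime 2) := ⟨Nat.prime_two⟩
  exact (Cfsg.Agent.S1327.result 2).2 (pLayer_eq_bot_of_no_component fun hc => h ⟨t, ht, hc⟩)

theorem constrainedCentralizers_of_solvable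
    (h : ∀ t : G, orderOf t = 2 → Group.IsSolvable (centralizer ({t} : Set G))) :
    ConstrainedCentralizers G := fun t ht => by
  have : Fact (Nat.Prime 2) := ⟨Nat.prime_two⟩
  refine (Cfsg.Agent.S1327.result 2).2 (pLayer_eq_bot_of_no_component ?_)
  rintro ⟨K, -, hperf, hsimp⟩
  have := h t ht
  have : Group.IsSolvable (↥(centralizer ({t} : Set G)) ⧸
      Cfsg.oddCore ↥(centralizer ({t} : Set G))) :=
    Group.isSolvable_of_surjective (QuotientGroup.mk'_surjective _)
  have : Group.IsSolvable K := Group.isSolvable_of_isSolvable_injective K.subtype_injective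
  have := hsimp.toNontrivial
  have : Nontrivial K := (QuotientGroup.mk'_surjective (center K)).nontrivial
  exact Group.IsSolvable.commutator_lt_top_of_nontrivial K |>.ne hperf.commutator_eq_top

theorem constrainedCentralizers_of_locals
    (h : ∀ T : Subgroup G, IsPGroup 2 T → T ≠ ⊥ →
      Cfsg.IsPConstrained 2 ↥(normalizer (T : Set G))) : ConstrainedCentralizers G := fun t ht => by
  have : Fact (Nat.Prime 2) := ⟨Nat.prime_two⟩
  rw [← normalizer_zpowers_involution ht]
  exact h _ (CfsgLib.Components.isPGroup_zpowers ht)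
    (fun e => ne_one_of_orderOf ht (zpowers_eq_bot.1 e))

/-- Trivial cores and constrained centralizers give characteristic 2 type. -/
theorem characteristicTwoType (heven : Even (Nat.card G)) (hC : ConstrainedCentralizers G)
    (hcores : ∀ t : G, orderOf t = 2 → Cfsg.centralizerPPrimeCore 2 t = ⊥) :
    Cfsg.IsCharacteristicTwoType G := by
  have : Fact (Nat.Prime 2) := ⟨Nat.prime_two⟩
  refine ⟨heven, fun T hT hT1 => ?_⟩
  refine CfsgLib.Components.centralizer_pCore_le_of_generalizedFitting_eq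
    (Cfsg.Agent.S1292.result (fun t ht => ?_) T hT hT1)
  have h0 : Cfsg.pPrimeCore 2 ↥(centralizer ({t} : Set G)) = ⊥ :=
    (map_eq_bot_iff_of_injective _ (subtype_injective _)).1 (hcores t ht)
  exact CfsgLib.Components.generalizedFitting_eq_pCore_of_centralizer_le 2
    ((CfsgLib.PLocal.isPConstrained_iff_of_core_eq_bot h0).1 (hC t ht))

/-- With a normal elementary abelian subgroup of order at least 8. -/
theorem cores_eq_bot_of_normal (h1221 : SECore.{u}) (hC : ConstrainedCentralizers G)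
    (hO : Cfsg.oddCore G = ⊥) (S : Sylow 2 G) (A : Subgroup ↥(S : Subgroup G)) (hAn : A.Normal)
    (hAab : IsMulCommutative ↥A) (hA3 : ¬ Cfsg.PRankLE 2 2 ↥A) :
    ∀ t : G, orderOf t = 2 → Cfsg.centralizerPPrimeCore 2 t = ⊥ := by
  obtain ⟨V, hVS, hV, hV4, hSV⟩ := exists_normal_elemAb S A hAn hAab hA3 S
  have hrk : ¬ Cfsg.PRankLE 2 2 G := fun h => absurd (h V hV.1 hV.2) (by norm_num; omega)
  obtain ⟨U, hU⟩ := exists_fourFrame S hrk
  exact hU.cores_eq_bot h1221 hC hO (allCovered_of_normal hVS hV hV4 hSV)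

theorem oddCore_eq_bot_of_simple [IsSimpleGroup G] {t : G} (ht : orderOf t = 2) :
    Cfsg.oddCore G = ⊥ := by
  have : Fact (Nat.Prime 2) := ⟨Nat.prime_two⟩
  refine (Cfsg.pPrimeCore_normal 2 G).eq_bot_or_eq_top.resolve_right fun e => ?_
  have h1 : Nat.Coprime (Nat.card (⊤ : Subgroup G)) 2 := e ▸ CfsgLib.PCore.pPrimeCore_coprime
  rw [Subgroup.card_top] at h1
  exact Nat.prime_two.not_dvd_one (h1 ▸ Nat.dvd_gcd (ht ▸ orderOf_dvd_natCard t) dvd_rfl)

/-- A connected Sylow 2-subgroup covers. -/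
theorem allCovered_of_connected {S : Sylow 2 G} {U : Subgroup G} (h : FourFrame S U)
    (hconn : Cfsg.IsFourConnected ↥(S : Subgroup G)) : AllCovered S U := by
  classical
  have : Fact (Nat.Prime 2) := ⟨Nat.prime_two⟩
  intro a ha ha2
  refine ⟨1, one_mem _, ?_⟩
  simp only [one_mul, inv_one, mul_one]
  by_cases haT : a ∈ tT S U
  · exact h.covered_of_mem_tT haT ha2
  obtain ⟨z, hz, hz2, hzc⟩ := h.exists_central
  have hzT : z ∈ tT S U := h.le_tT hz
  set A := zpowers a ⊔ zpowers z with hA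
  have hAe : Cfsg.IsElementaryAbelian 2 A :=
    elemAb_sup (elemAb_zpowers (ha2 ▸ pow_orderOf_eq_one a))
      (elemAb_zpowers (hz2 ▸ pow_orderOf_eq_one z)) fun b hb c hc => by
        obtain ⟨i, rfl⟩ := mem_zpowers_iff.1 hb
        obtain ⟨j, rfl⟩ := mem_zpowers_iff.1 hc
        exact (Commute.zpow_zpow (hzc a ha) i j).eq
  have hAS : A ≤ (S : Subgroup G) := sup_le (zpowers_le.2 ha) (zpowers_le.2 (h.le hz))
  by_cases hA4 : 4 < Nat.card A
  · exact ⟨A, hAS, hAe, hA4, mem_sup_left (mem_zpowers a)⟩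
  have hAc : Nat.card A = 4 := by
    have hlt : zpowers z < A := lt_of_le_of_ne le_sup_right fun e =>
      haT (zpowers_le.2 hzT (e ▸ mem_sup_left (mem_zpowers a)))
    have h1 : Nat.card (zpowers z) < Nat.card A :=
      lt_of_le_of_ne (card_le_of_le hlt.le) fun e => hlt.ne (eq_of_le_of_card_ge hlt.le e.ge)
    rw [Nat.card_zpowers, hz2] at h1
    obtain ⟨i, hi⟩ := IsPGroup.iff_card.1 (isPGroup_of_elemAb hAe)
    rw [hi] at h1 hA4 ⊢
    rcases i with _ | _ | _ | i
    · simp at h1
    · simp at h1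
    · rfl
    · have : 2 ^ 3 ≤ 2 ^ (i + 3) := Nat.pow_le_pow_right two_pos (by omega)
      omega
  have hk : ∀ B : Subgroup G, B ≤ (S : Subgroup G) → Nat.card B = 4 → Cfsg.IsElementaryAbelian 2 B →
      IsKleinFour ↥(B.subgroupOf (S : Subgroup G)) := fun B hB hc he =>
    CfsgLib.CIT.four_of_card (by rw [Nat.card_congr (subgroupOfEquivOfLe hB).toEquiv]; exact hc)
      fun v hv => Subtype.ext (by rw [← pow_two]; exact he.2 _ hv)
  have hne : A.subgroupOf (S : Subgroup G) ≠ U.subgroupOf (S : Subgroup G) := fun e => haT (by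
    have h1 : (⟨a, ha⟩ : ↥(S : Subgroup G)) ∈ A.subgroupOf (S : Subgroup G) :=
      mem_sup_left (mem_zpowers a)
    rw [e] at h1
    exact h.le_tT h1)
  -- a neighbour different from `A`
  obtain ⟨B, hAB, hBne⟩ : ∃ B : Subgroup ↥(S : Subgroup G),
      (IsKleinFour ↥(A.subgroupOf (S : Subgroup G)) ∧ IsKleinFour ↥B ∧
        ∀ x ∈ A.subgroupOf (S : Subgroup G), ∀ y ∈ B, x * y = y * x) ∧
        B ≠ A.subgroupOf (S : Subgroup G) := by
    by_contra hno
    push Not at hno
    have key : ∀ C : Subgroup ↥(S : Subgroup G), Relation.ReflTransGen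
        (fun A B : Subgroup ↥(S : Subgroup G) =>
          IsKleinFour ↥A ∧ IsKleinFour ↥B ∧ ∀ a ∈ A, ∀ b ∈ B, a * b = b * a)
        (A.subgroupOf (S : Subgroup G)) C → C = A.subgroupOf (S : Subgroup G) := by
      intro C hC
      induction hC with
      | refl => rfl
      | tail _ hs ih => subst ih; exact hno _ hs
    exact hne (key _ (hconn _ _ (hk A hAS hAc hAe) (hk U h.le h.card h.elem))).symm
  obtain ⟨-, hBk, hBc⟩ := hAB
  set B' := B.map (S : Subgroup G).subtype with hB'
  have hB'S : B' ≤ (S : Subgroup G) := map_subtype_le _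
  have hB'e : Cfsg.IsElementaryAbelian 2 B' := CfsgLib.CoreKill.elemAb_of_sq fun v hv => by
    obtain ⟨w, hw, rfl⟩ := hv
    rw [← map_mul, show w * w = 1 from congrArg Subtype.val (IsKleinFour.mul_self
      (⟨w, hw⟩ : ↥B)), map_one]
  have hcomm : ∀ b ∈ B', ∀ c ∈ A, c * b = b * c := by
    rintro _ ⟨w, hw, rfl⟩ c hc
    exact congrArg Subtype.val (hBc ⟨c, hAS hc⟩ hc w hw)
  refine ⟨A ⊔ B', sup_le hAS hB'S, elemAb_sup hAe hB'e fun c hc b hb => hcomm b hb c hc, ?_,
    mem_sup_left (mem_sup_left (mem_zpowers a))⟩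
  have hlt : A < A ⊔ B' := lt_of_le_of_ne le_sup_left fun e => hBne (by
    have hle : B ≤ A.subgroupOf (S : Subgroup G) := fun w hw =>
      e.ge (mem_sup_right (mem_map_of_mem _ hw))
    refine eq_of_le_of_card_ge hle ?_
    rw [Nat.card_congr (subgroupOfEquivOfLe hAS).toEquiv, hAc, hBk.card_four])
  rw [← hAc]
  exact lt_of_le_of_ne (card_le_of_le hlt.le) fun e => hlt.ne (eq_of_le_of_card_ge hlt.le e.ge)

theorem characteristicTwoType_of_connected (h1221 : SECore.{u}) (h3 : ¬ Cfsg.PRankLE 2 2 G)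
    (hO : Cfsg.oddCore G = ⊥) (hc : ¬ Cfsg.IsComponentType G) (S : Sylow 2 G)
    (hS : Cfsg.IsFourConnected ↥(S : Subgroup G)) : Cfsg.IsCharacteristicTwoType G := by
  obtain ⟨U, hU⟩ := exists_fourFrame S h3
  have hC := constrainedCentralizers_of_not_componentType hc
  refine characteristicTwoType ?_ hC (hU.cores_eq_bot h1221 hC hO (allCovered_of_connected hU hS))
  rw [even_iff_two_dvd]
  exact (dvd_trans (by rw [hU.card]; norm_num) U.card_subgroup_dvd_card)

theorem dichotomy (h1221 : SECore.{u}) (heven : Even (Nat.card G))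
    (hO2 : ∀ N : Subgroup G, N.Normal → N.index ≠ 2) (hO : Cfsg.oddCore G = ⊥) :
    Cfsg.PRankLE 2 2 G ∨ Cfsg.IsComponentType G ∨ Cfsg.IsCharacteristicTwoType G := by
  by_contra hno
  push Not at hno
  obtain ⟨h3, hc, hct⟩ := hno
  obtain ⟨S⟩ := (inferInstance : Nonempty (Sylow 2 G))
  obtain ⟨U, hU⟩ := exists_fourFrame S h3
  have hC := constrainedCentralizers_of_not_componentType hc
  exact hct (characteristicTwoType heven hC (hU.cores_eq_bot h1221 hC hO (hU.allCovered hC hO2)))

end CfsgLib.CoreKill
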