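import Cfsg.Agent.Lib.CoreKill.Constrained
import Cfsg.Agent.S0217
import Cfsg.Agent.S1327
import Cfsg.Agent.Lib.PF.OddOrder
import Cfsg.Agent.Lib.PGroup.NormalSquare

/-!
All involution centralizers 2-constrained: every elementary abelian subgroup of order at least 8 of a Sylow
2-subgroup gives the same completion `W`, and if every involution of the Sylow subgroup is conjugate under
`N(W)` into such a subgroup then `W` is trivial (given the theorem on cores of strongly embedded subgroups).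
-/

set_option autoImplicit false

namespace CfsgLib.CoreKill

open Subgroup CfsgLib.SignalizerConn42 CfsgLib.FTCons

universe u

variable {G : Type u} [Group G] [Finite G]

/-- The involution centralizers of `G` are 2-constrained. -/
def ConstrainedCentralizers (G : Type u) [Group G] : Prop :=
  ∀ t : G, orderOf t = 2 → Cfsg.IsPConstrained 2 ↥(centralizer ({t} : Set G))

theorem ConstrainedCentralizers.layer (hC : ConstrainedCentralizers G) (y : G) (hy : orderOf y = 2) :
    Cfsg.pLayer 2 ↥(centralizer ({y} : Set G)) = ⊥ := by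
  have : Fact (Nat.Prime 2) := ⟨Nat.prime_two⟩
  exact (Cfsg.Agent.S1327.result 2).1 (hC y hy)

theorem orderOf_of_mem {E : Subgroup G} (hE : Cfsg.IsElementaryAbelian 2 E) {a : G} (ha : a ∈ E)
    (ha1 : a ≠ 1) : orderOf a = 2 := by
  have : Fact (Nat.Prime 2) := ⟨Nat.prime_two⟩
  exact orderOf_eq_prime (hE.2 a ha) ha1

theorem ne_one_of_orderOf {a : G} (ha : orderOf a = 2) : a ≠ 1 := fun e => by
  rw [e, orderOf_one] at ha
  omega

theorem eight_le_card {E : Subgroup G} (hE : Cfsg.IsElementaryAbelian 2 E) (h : 4 < Nat.card E) :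
    8 ≤ Nat.card E := by
  have : Fact (Nat.Prime 2) := ⟨Nat.prime_two⟩
  obtain ⟨j, hj⟩ := IsPGroup.iff_card.1 (isPGroup_of_elemAb hE)
  rw [hj] at h ⊢
  have h3 : 3 ≤ j := by
    by_contra h'
    have := Nat.pow_le_pow_right two_pos (show j ≤ 2 by omega)
    omega
  exact le_trans (by norm_num) (Nat.pow_le_pow_right two_pos h3)

/-- The signalizer functor theorem for the cores along an elementary abelian subgroup of order at
least 8. -/
theorem coreJoin_odd_and_fixed (hC : ConstrainedCentralizers G) {E : Subgroup G}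
    (hE : Cfsg.IsElementaryAbelian 2 E) (h4 : 4 < Nat.card E) :
    Odd (Nat.card ↥(coreJoin E)) ∧
      ∀ a ∈ E, a ≠ 1 → coreJoin E ⊓ centralizer {a} = Cfsg.centralizerPPrimeCore 2 a := by
  have : Fact (Nat.Prime 2) := ⟨Nat.prime_two⟩
  have h := Cfsg.Agent.S0217.result (p := 2) E (fun x hx y hy => commute_of_elemAb hE hx hy) hE.2
    ((show 2 ^ 3 = 8 from rfl) ▸ eight_le_card hE h4)
    (fun a => Cfsg.centralizerPPrimeCore 2 a) (fun a _ _ => core_le_centralizer a)
    (fun a _ _ => odd_core a)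
    (fun a ha _ b hb x hx => (mem_normalizer_iff.1
      (mem_normalizer_core (commute_of_elemAb hE hb ha)) x).1 hx)
    (fun a _ _ => CfsgLib.PF.oddSolvable _ (by
      rw [← Nat.not_even_iff_odd, even_iff_two_dvd]; exact odd_core a))
    (fun a ha ha1 b hb hb1 => core_balance
      (CfsgLib.Components.isPGroup_zpowers (orderOf_of_mem hE ha ha1)) ha1
      (commute_of_elemAb hE ha hb) (hC.layer b (orderOf_of_mem hE hb hb1)))
  refine ⟨?_, h.2⟩
  rw [← Nat.not_even_iff_odd, even_iff_two_dvd]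
  exact h.1

theorem map_core_eq (a g : G) :
    (Cfsg.centralizerPPrimeCore 2 a).map (MulAut.conj g).toMonoidHom =
      Cfsg.centralizerPPrimeCore 2 (g * a * g⁻¹) := by
  have : Fact (Nat.Prime 2) := ⟨Nat.prime_two⟩
  refine le_antisymm (centralizerPPrimeCore_conj a g) fun x hx => ?_
  have h := centralizerPPrimeCore_conj (p := 2) (g * a * g⁻¹) g⁻¹
    (mem_map_of_mem (MulAut.conj g⁻¹).toMonoidHom hx)
  rw [show g⁻¹ * (g * a * g⁻¹) * g⁻¹⁻¹ = a by group] at h
  exact ⟨_, h, by simp [mul_assoc]⟩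

theorem map_coreJoin (B : Subgroup G) (g : G) :
    (coreJoin B).map (MulAut.conj g).toMonoidHom =
      coreJoin (B.map (MulAut.conj g).toMonoidHom) := by
  rw [coreJoin, Subgroup.map_iSup]
  refine le_antisymm (iSup_le fun b => ?_) (iSup_le fun b => ?_)
  · rw [map_core_eq]
    exact le_coreJoin (mem_map_of_mem _ b.2.1) fun e => b.2.2 (conj_eq_one_iff.1 e)
  · obtain ⟨c, hc, hcb⟩ := b.2.1
    have hc1 : c ≠ 1 := fun e => b.2.2 (by rw [← hcb, e, map_one])
    refine le_trans ?_ (le_iSup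
      (fun b : {b : G // b ∈ B ∧ b ≠ 1} =>
        (Cfsg.centralizerPPrimeCore 2 (b : G)).map (MulAut.conj g).toMonoidHom) ⟨c, hc, hc1⟩)
    rw [map_core_eq, ← hcb]
    rfl

theorem normalizer_le_normalizer_coreJoin (B : Subgroup G) :
    normalizer (B : Set G) ≤ normalizer (coreJoin B : Set G) := by
  intro g hg
  refine CfsgLib.Coprime.mem_normalizer_of_forall_conj fun y hy => ?_
  have h : (coreJoin B).map (MulAut.conj g).toMonoidHom ≤ coreJoin B := by
    rw [map_coreJoin]
    refine coreJoin_mono ?_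
    rintro _ ⟨b, hb, rfl⟩
    exact (mem_normalizer_iff.1 hg b).1 hb
  exact h (mem_map_of_mem _ hy)

theorem exists_square_root_pow {S : Sylow 2 G} {b : G} (hb : b ∈ (S : Subgroup G)) (hb1 : b ≠ 1) :
    IsPGroup 2 (zpowers b) ∧ ∃ k : ℕ, orderOf (b ^ k) = 2 := by
  have : Fact (Nat.Prime 2) := ⟨Nat.prime_two⟩
  obtain ⟨k, hk⟩ := IsPGroup.iff_orderOf.1 S.2 ⟨b, hb⟩
  rw [← Subgroup.orderOf_coe] at hk
  change orderOf b = 2 ^ k at hk
  refine ⟨IsPGroup.iff_card.2 ⟨k, by rw [Nat.card_zpowers, hk]⟩, ?_⟩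
  obtain ⟨k, rfl⟩ : ∃ j, k = j + 1 := by
    rcases k with _ | j
    · exact absurd (orderOf_eq_one_iff.1 (hk.trans (pow_zero _))) hb1
    · exact ⟨j, rfl⟩
  exact ⟨2 ^ k, by rw [orderOf_pow, hk, Nat.gcd_eq_right (pow_dvd_pow 2 k.le_succ), pow_succ,
    Nat.mul_div_cancel_left _ (pow_pos two_pos k)]⟩

variable {S : Sylow 2 G} {U : Subgroup G}

/-- A normal four-subgroup of a Sylow 2-subgroup. -/
structure FourFrame (S : Sylow 2 G) (U : Subgroup G) : Prop where
  le : U ≤ (S : Subgroup G)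
  elem : Cfsg.IsElementaryAbelian 2 U
  card : Nat.card U = 4
  norm : (S : Subgroup G) ≤ normalizer (U : Set G)
  big : ∃ E : Subgroup G, E ≤ (S : Subgroup G) ∧ Cfsg.IsElementaryAbelian 2 E ∧ 4 < Nat.card E

theorem exists_fourFrame (S : Sylow 2 G) (h : ¬ Cfsg.PRankLE 2 2 G) :
    ∃ U : Subgroup G, FourFrame S U := by
  have : Fact (Nat.Prime 2) := ⟨Nat.prime_two⟩
  simp only [Cfsg.PRankLE, not_forall, not_le] at h
  obtain ⟨A, hAc, hA2, hA⟩ := h
  have hAe : Cfsg.IsElementaryAbelian 2 A := ⟨hAc, hA2⟩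
  obtain ⟨P, hP⟩ := (isPGroup_of_elemAb hAe).exists_le_sylow
  obtain ⟨g, hg⟩ := MulAction.exists_smul_eq G P S
  set E := A.map (MulAut.conj g).toMonoidHom with hEdef
  have hES : E ≤ (S : Subgroup G) := by
    rintro _ ⟨a, ha, rfl⟩
    rw [← hg, Sylow.coe_subgroup_smul]
    exact smul_mem_pointwise_smul _ _ _ (hP ha)
  have hE : Cfsg.IsElementaryAbelian 2 E := CfsgLib.OddOrder.elemAb_map hAe _
  have hE4 : 4 < Nat.card E := by
    rw [hEdef, card_map_of_injective (MulAut.conj g).injective]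
    exact hA
  have hrk : ¬ Cfsg.PRankLE 2 2 ↥(S : Subgroup G) := fun h' => by
    have h1 := h' (E.subgroupOf S) ⟨⟨fun a b => Subtype.ext (Subtype.ext
      (commute_of_elemAb hE a.2 b.2))⟩⟩ (fun a ha => Subtype.ext (hE.2 _ ha))
    rw [Nat.card_congr (subgroupOfEquivOfLe hES).toEquiv] at h1
    exact absurd h1 (by norm_num; omega)
  obtain ⟨U, hUn, hUe, hUc⟩ := CfsgLib.PGroup39.exists_normal_elementary_square S.2 hrk
  refine ⟨U.map (S : Subgroup G).subtype, map_subtype_le _, CfsgLib.OddOrder.elemAb_map hUe _, ?_,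
    ?_, E, hES, hE, hE4⟩
  · rw [card_map_of_injective (subtype_injective _), hUc]
    norm_num
  · intro s hs
    refine CfsgLib.Coprime.mem_normalizer_of_forall_conj ?_
    rintro _ ⟨x, hx, rfl⟩
    exact ⟨⟨s, hs⟩ * x * ⟨s, hs⟩⁻¹, hUn.conj_mem x hx _, by simp⟩

/-- The centralizer of `U` in `S`. -/
def tT (S : Sylow 2 G) (U : Subgroup G) : Subgroup G :=
  (S : Subgroup G) ⊓ centralizer (U : Set G)

theorem FourFrame.exists_central (h : FourFrame S U) :
    ∃ z ∈ U, orderOf z = 2 ∧ ∀ s ∈ (S : Subgroup G), s * z = z * s := by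
  have : Fact (Nat.Prime 2) := ⟨Nat.prime_two⟩
  have := S.2.isNilpotent
  have : (U.subgroupOf (S : Subgroup G)).Normal := normal_subgroupOf_of_le_normalizer h.norm
  have hne : U.subgroupOf (S : Subgroup G) ≠ ⊥ := fun e => by
    have h1 := (Nat.card_congr (subgroupOfEquivOfLe h.le).toEquiv).symm
    rw [e, Subgroup.card_bot, h.card] at h1
    omega
  obtain ⟨w, hw, hwc, hw1⟩ :=
    CfsgLib.Coprime39.exists_central_mem (U.subgroupOf (S : Subgroup G)) hne
  exact ⟨w, hw, orderOf_of_mem h.elem hw (fun e => hw1 (Subtype.ext e)),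
    fun s hs => congrArg Subtype.val (mem_center_iff.1 hwc ⟨s, hs⟩)⟩

theorem FourFrame.le_tT (h : FourFrame S U) : U ≤ tT S U :=
  le_inf h.le fun u hu => mem_centralizer_iff.2 fun v hv => commute_of_elemAb h.elem hv hu

/-- The non-central elements of `U` are `u` and `u * z`. -/
theorem FourFrame.cases (h : FourFrame S U) {z u v : G} (hz : z ∈ U) (hz1 : z ≠ 1) (hu : u ∈ U)
    (hu1 : u ≠ 1) (huz : u ≠ z) (hv : v ∈ U) : v = 1 ∨ v = z ∨ v = u ∨ v = u * z := by
  classical
  by_contra hne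
  push Not at hne
  have hzz : z * z = 1 := by rw [← pow_two]; exact h.elem.2 z hz
  let f : Fin 5 → U := ![1, ⟨z, hz⟩, ⟨u, hu⟩, ⟨u * z, U.mul_mem hu hz⟩, ⟨v, hv⟩]
  have huz1 : u * z ≠ 1 := fun e => huz (by
    rw [← mul_left_inj z, e, hzz])
  have hinj : Function.Injective f := by
    intro i j hij
    have h1 : u * z ≠ z := fun e => hu1 (mul_eq_right.1 e)
    have h2 : u * z ≠ u := fun e => hz1 (mul_eq_left.1 e)
    fin_cases i <;> fin_cases j <;>
      simp [f, Subtype.ext_iff, hz1, hu1, huz, huz1, h1, h2, hne.1, hne.2.1, hne.2.2.1, hne.2.2.2,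
        hz1.symm, hu1.symm, huz.symm, huz1.symm, h1.symm, h2.symm, hne.1.symm, hne.2.1.symm,
        hne.2.2.1.symm, hne.2.2.2.symm] at hij ⊢
  have := Nat.card_le_card_of_injective f hinj
  rw [Nat.card_fin, h.card] at this
  omega

theorem FourFrame.exists_u (h : FourFrame S U) (z : G) : ∃ u ∈ U, u ≠ 1 ∧ u ≠ z := by
  classical
  by_contra hne
  push Not at hne
  have hle : Nat.card U ≤ Nat.card (Fin 2) :=
    Nat.card_le_card_of_injective (fun v : U => if (v : G) = 1 then (0 : Fin 2) else 1)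
      fun a b hab => by
        refine Subtype.ext ?_
        by_cases ha : (a : G) = 1 <;> by_cases hb : (b : G) = 1
        · rw [ha, hb]
        · simp [ha, hb] at hab
        · simp [ha, hb] at hab
        · rw [hne a a.2 ha, hne b b.2 hb]
  rw [h.card, Nat.card_fin] at hle
  omega

theorem FourFrame.relIndex_le (h : FourFrame S U) : (tT S U).relIndex (S : Subgroup G) ≤ 2 := by
  classical
  by_cases hall : ∀ s ∈ (S : Subgroup G), s ∈ tT S U
  · rw [Subgroup.relIndex_eq_one.2 hall]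
    omega
  push Not at hall
  obtain ⟨s, hs, hsT⟩ := hall
  obtain ⟨z, hz, hz2, hzc⟩ := h.exists_central
  obtain ⟨u, hu, hu1, huz⟩ := h.exists_u z
  have hzz : z * z = 1 := by rw [← pow_two]; exact h.elem.2 z hz
  have hfix : ∀ r ∈ (S : Subgroup G), r * u * r⁻¹ = u → r ∈ tT S U := fun r hr e =>
    ⟨hr, mem_centralizer_iff.2 fun v hv => by
      have e' : r * u = u * r := mul_inv_eq_iff_eq_mul.1 e
      rcases h.cases hz (ne_one_of_orderOf hz2) hu hu1 huz hv with rfl | rfl | rfl | rfl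
      · simp
      · exact (hzc r hr).symm
      · exact e'.symm
      · rw [mul_assoc, ← hzc r hr, ← mul_assoc, ← e', mul_assoc]⟩
  have hmove : ∀ r ∈ (S : Subgroup G), r ∉ tT S U → r * u * r⁻¹ = u * z := by
    intro r hr hrT
    rcases h.cases hz (ne_one_of_orderOf hz2) hu hu1 huz
      ((mem_normalizer_iff.1 (h.norm hr) u).1 hu) with e | e | e | e
    · exact absurd (conj_eq_one_iff.1 e) hu1
    · refine absurd ?_ huz
      rw [mul_inv_eq_iff_eq_mul, ← hzc r hr] at e
      exact mul_left_cancel e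
    · exact absurd (hfix r hr e) hrT
    · exact e
  refine le_of_eq (Subgroup.index_eq_two_iff.2 ⟨⟨s, hs⟩, fun b => ?_⟩)
  simp only [mem_subgroupOf, Subgroup.coe_mul]
  by_cases hb : (b : G) ∈ tT S U
  · exact Or.inr ⟨hb, fun hc => hsT ((mul_mem_cancel_left hb).1 hc)⟩
  refine Or.inl ⟨hfix _ (mul_mem b.2 hs) ?_, hb⟩
  have hb' : (b : G) * z * (b : G)⁻¹ = z := by rw [hzc _ b.2, mul_inv_cancel_right]
  calc (b : G) * s * u * ((b : G) * s)⁻¹ = b * (s * u * s⁻¹) * (b : G)⁻¹ := by group
    _ = b * u * (b : G)⁻¹ * (b * z * (b : G)⁻¹) := by rw [hmove s hs hsT]; group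
    _ = u * z * z := by rw [hmove _ b.2 hb, hb']
    _ = u := by rw [mul_assoc, hzz, mul_one]

theorem FourFrame.card_inf_tT (h : FourFrame S U) {E : Subgroup G} (hES : E ≤ (S : Subgroup G)) :
    Nat.card E ≤ Nat.card (E ⊓ tT S U : Subgroup G) * 2 := by
  have h1 := CfsgLib.LocalEvenSix.card_mul_relIndex' (inf_le_left : E ⊓ tT S U ≤ E)
  rw [inf_relIndex_left] at h1
  have h2 : (tT S U).relIndex E ≤ 2 :=
    (relIndex_le_of_le_right hES (by exact FiniteIndex.index_ne_zero)).trans h.relIndex_le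
  rw [← h1]
  exact Nat.mul_le_mul le_rfl h2

theorem FourFrame.sup_inf (h : FourFrame S U) {E : Subgroup G}
    (hE : Cfsg.IsElementaryAbelian 2 E) :
    Cfsg.IsElementaryAbelian 2 (E ⊓ tT S U ⊔ U : Subgroup G) :=
  elemAb_sup ⟨⟨⟨fun a b => Subtype.ext (commute_of_elemAb hE a.2.1 b.2.1)⟩⟩, fun a ha => hE.2 a ha.1⟩
    h.elem fun _ ha v hv => (mem_centralizer_iff.1 ha.2.2 v hv).symm

/-- All elementary abelian subgroups of order at least 8 of `S` give the same completion. -/
theorem FourFrame.coreJoin_eq (h : FourFrame S U) (hC : ConstrainedCentralizers G) {E : Subgroup G}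
    (hES : E ≤ (S : Subgroup G)) (hE : Cfsg.IsElementaryAbelian 2 E) (h4 : 4 < Nat.card E) :
    coreJoin E = coreJoin U := by
  have h2 : 2 < Nat.card (E ⊓ tT S U : Subgroup G) := by
    have := h.card_inf_tT hES
    omega
  have hU2 : 2 < Nat.card U := by rw [h.card]; omega
  rw [coreJoin_eq_of_le hC.layer inf_le_left hE h2,
    ← coreJoin_eq_of_le hC.layer le_sup_left (h.sup_inf hE) h2,
    ← coreJoin_eq_of_le hC.layer le_sup_right (h.sup_inf hE) hU2]

theorem FourFrame.odd_coreJoin (h : FourFrame S U) (hC : ConstrainedCentralizers G) :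
    Odd (Nat.card ↥(coreJoin U)) := by
  obtain ⟨E, hES, hE, h4⟩ := h.big
  rw [← h.coreJoin_eq hC hES hE h4]
  exact (coreJoin_odd_and_fixed hC hE h4).1

theorem FourFrame.le_normalizer_coreJoin (h : FourFrame S U) :
    (S : Subgroup G) ≤ normalizer (coreJoin U : Set G) :=
  h.norm.trans (normalizer_le_normalizer_coreJoin U)

/-- An involution of `S` lies in an elementary abelian subgroup of order at least 8 of `S`. -/
def Covered (S : Sylow 2 G) (a : G) : Prop :=
  ∃ E : Subgroup G, E ≤ (S : Subgroup G) ∧ Cfsg.IsElementaryAbelian 2 E ∧ 4 < Nat.card E ∧ a ∈ E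

theorem FourFrame.fixed_of_covered (h : FourFrame S U) (hC : ConstrainedCentralizers G) {a : G}
    (ha : orderOf a = 2) (hcov : Covered S a) :
    coreJoin U ⊓ centralizer {a} = Cfsg.centralizerPPrimeCore 2 a := by
  obtain ⟨E, hES, hE, h4, haE⟩ := hcov
  rw [← h.coreJoin_eq hC hES hE h4]
  exact (coreJoin_odd_and_fixed hC hE h4).2 a haE (ne_one_of_orderOf ha)

/-- The involutions of `S` are conjugate under `N(W)` into elementary subgroups of order 8 of `S`. -/
def AllCovered (S : Sylow 2 G) (U : Subgroup G) : Prop :=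
  ∀ a ∈ (S : Subgroup G), orderOf a = 2 →
    ∃ m ∈ normalizer (coreJoin U : Set G), Covered S (m * a * m⁻¹)

theorem FourFrame.fixed_of_allCovered (h : FourFrame S U) (hC : ConstrainedCentralizers G)
    (hcov : AllCovered S U) {a : G} (haS : a ∈ (S : Subgroup G)) (ha : orderOf a = 2) :
    coreJoin U ⊓ centralizer {a} = Cfsg.centralizerPPrimeCore 2 a := by
  obtain ⟨m, hm, hc⟩ := hcov a haS ha
  have h1 := h.fixed_of_covered hC (by rw [conj_order, ha]) hc
  have hW : (coreJoin U).map (MulAut.conj m).toMonoidHom = coreJoin U := by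
    ext x
    rw [mem_map_equiv, MulAut.conj_symm_apply]
    constructor
    · intro hx
      have := (mem_normalizer_iff.1 hm _).1 hx
      simpa [mul_assoc] using this
    · intro hx
      exact (mem_normalizer_iff.1 hm _).2 (by simpa [mul_assoc] using hx)
  have hc2 : (centralizer ({a} : Set G)).map (MulAut.conj m).toMonoidHom =
      centralizer {m * a * m⁻¹} := by
    ext x
    rw [mem_map_equiv, MulAut.conj_symm_apply, mem_centralizer_singleton_iff,
      mem_centralizer_singleton_iff]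
    constructor
    · intro e
      calc x * (m * a * m⁻¹) = m * (m⁻¹ * x * m * a) * m⁻¹ := by group
        _ = m * (a * (m⁻¹ * x * m)) * m⁻¹ := by rw [e]
        _ = m * a * m⁻¹ * x := by group
    · intro e
      calc m⁻¹ * x * m * a = m⁻¹ * (x * (m * a * m⁻¹)) * m := by group
        _ = m⁻¹ * (m * a * m⁻¹ * x) * m := by rw [e]
        _ = a * (m⁻¹ * x * m) := by group
  apply map_injective (f := (MulAut.conj m).toMonoidHom) (MulAut.conj m).injective
  rw [map_inf _ _ _ (MulAut.conj m).injective, hW, hc2, map_core_eq, h1]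

theorem FourFrame.big_normalizer (h : FourFrame S U) (hC : ConstrainedCentralizers G)
    (hcov : AllCovered S U) {B : Subgroup G} (hBS : B ≤ (S : Subgroup G))
    (hB : ¬ Cfsg.PRankLE 2 1 ↥B) : normalizer (B : Set G) ≤ normalizer (coreJoin U : Set G) := by
  have : Fact (Nat.Prime 2) := ⟨Nat.prime_two⟩
  suffices hWB : coreJoin B = coreJoin U by
    rw [← hWB]
    exact normalizer_le_normalizer_coreJoin B
  refine le_antisymm (iSup_le fun b => ?_) ?_
  · obtain ⟨b, hbB, hb1⟩ := b
    obtain ⟨hbp, k, hk⟩ := exists_square_root_pow (hBS hbB) hb1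
    have hx : b ^ k ∈ (S : Subgroup G) := pow_mem (hBS hbB) k
    refine le_trans ?_ ((h.fixed_of_allCovered hC hcov hx hk).ge.trans inf_le_left)
    refine le_trans (le_inf le_rfl fun y hy => mem_centralizer_singleton_iff.2 ?_)
      (core_balance hbp hb1 (Commute.pow_right (Commute.refl b) k).eq (hC.layer _ hk))
    exact ((show Commute y b from
      mem_centralizer_singleton_iff.1 (core_le_centralizer b hy)).pow_right k).eq
  · simp only [Cfsg.PRankLE, not_forall, not_le] at hB
    obtain ⟨F₀, hF₀c, hF₀p, hF₀⟩ := hB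
    set F := F₀.map B.subtype with hFdef
    have hF : Cfsg.IsElementaryAbelian 2 F := CfsgLib.OddOrder.elemAb_map ⟨hF₀c, hF₀p⟩ _
    have hFS : F ≤ (S : Subgroup G) := (map_subtype_le _).trans hBS
    have hF2 : 2 < Nat.card F := by
      rw [hFdef, card_map_of_injective B.subtype_injective]
      simpa using hF₀
    have : IsMulCommutative F := hF.1
    have hncyc : ¬ IsCyclic F := fun hcyc => by
      have := hcyc
      obtain ⟨g, hg⟩ := IsCyclic.exists_generator (α := F)
      have h1 : Nat.card F ≤ 2 := by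
        rw [← orderOf_eq_card_of_forall_mem_zpowers hg]
        exact Nat.le_of_dvd two_pos (orderOf_dvd_of_pow_eq_one
          (show g ^ 2 = 1 from Subtype.ext (by simpa using hF.2 _ g.2)))
      omega
    obtain ⟨n, hn⟩ := IsPGroup.iff_card.mp (isPGroup_of_elemAb hF)
    rw [← CfsgLib.CoprimeGeneration.iSup_centralizer_eq F (coreJoin U) hncyc
      (hFS.trans h.le_normalizer_coreJoin)
      (hn ▸ Nat.Coprime.pow_left n (h.odd_coreJoin hC).coprime_two_left)]
    refine iSup₂_le fun y hy => ?_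
    rw [h.fixed_of_allCovered hC hcov (hFS hy.1) (orderOf_of_mem hF hy.1 hy.2)]
    exact le_coreJoin (map_subtype_le _ hy.1) hy.2

/-- The cores vanish. -/
theorem FourFrame.cores_eq_bot (h : FourFrame S U) (h1221 : SECore.{u})
    (hC : ConstrainedCentralizers G) (hO : Cfsg.oddCore G = ⊥) (hcov : AllCovered S U) :
    ∀ t : G, orderOf t = 2 → Cfsg.centralizerPPrimeCore 2 t = ⊥ := by
  have : Fact (Nat.Prime 2) := ⟨Nat.prime_two⟩
  set W := coreJoin U with hW
  have hcore : ∀ x ∈ (S : Subgroup G), orderOf x = 2 → Cfsg.centralizerPPrimeCore 2 x ≤ W :=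
    fun x hx hx2 => (h.fixed_of_allCovered hC hcov hx hx2).ge.trans inf_le_left
  by_cases hW1 : W = ⊥
  · intro t ht
    obtain ⟨P, hP⟩ := (CfsgLib.Components.isPGroup_zpowers ht).exists_le_sylow
    obtain ⟨g, hg⟩ := MulAction.exists_smul_eq G P S
    have hgt : g * t * g⁻¹ ∈ (S : Subgroup G) := by
      rw [← hg, Sylow.coe_subgroup_smul]
      exact smul_mem_pointwise_smul _ _ _ (hP (mem_zpowers t))
    have hle := hcore _ hgt (by rw [conj_order, ht])
    rw [hW1, le_bot_iff, ← map_core_eq] at hle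
    exact (map_eq_bot_iff_of_injective _ (MulAut.conj g).injective).1 hle
  exfalso
  set M := normalizer (W : Set G) with hM
  have hbn : BigNorm S M := ⟨h.le_normalizer_coreJoin, fun B hB hr => h.big_normalizer hC hcov hB hr⟩
  have hne : M ≠ ⊤ := fun e => by
    have hn : W.Normal := Subgroup.normalizer_eq_top_iff.1 (by rw [hM] at e; exact e)
    refine hW1 (le_bot_iff.1 (le_trans ?_ hO.le))
    exact CfsgLib.PCore.le_pPrimeCore hn (h.odd_coreJoin hC).coprime_two_right
  have hse : Cfsg.IsStronglyEmbedded M := by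
    refine hbn.stronglyEmbedded hne ?_ fun x hx hx2 => ?_
    · refine dvd_trans ?_ (card_dvd_of_le h.le)
      rw [h.card]
      norm_num
    obtain ⟨m, hm, E, hES, hE, h4, hmE⟩ := hcov x hx hx2
    refine hbn.centralizer_le _ (hC x hx2) ((hcore x hx hx2).trans le_normalizer)
      (E := E.map (MulAut.conj m⁻¹).toMonoidHom) (CfsgLib.OddOrder.elemAb_map hE _) ?_ ?_
      (by rw [card_map_of_injective (MulAut.conj m⁻¹).injective]; exact h4)
    · rintro _ ⟨e, he, rfl⟩
      have e1 : m * x * m⁻¹ * e = e * (m * x * m⁻¹) := commute_of_elemAb hE hmE he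
      rw [mem_centralizer_singleton_iff]
      show m⁻¹ * e * m⁻¹⁻¹ * x = x * (m⁻¹ * e * m⁻¹⁻¹)
      calc m⁻¹ * e * m⁻¹⁻¹ * x = m⁻¹ * (e * (m * x * m⁻¹)) * m := by group
        _ = m⁻¹ * (m * x * m⁻¹ * e) * m := by rw [e1]
        _ = x * (m⁻¹ * e * m⁻¹⁻¹) := by group
    · rintro _ ⟨e, he, rfl⟩
      show m⁻¹ * e * m⁻¹⁻¹ ∈ M
      exact M.mul_mem (M.mul_mem (M.inv_mem hm) (hbn.le (hES he))) (M.inv_mem (M.inv_mem hm))
  have hWO : W ≤ (Cfsg.oddCore ↥M).map M.subtype := by
    intro w hw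
    refine ⟨⟨w, le_normalizer hw⟩, ?_, rfl⟩
    refine CfsgLib.PCore.le_pPrimeCore (N := W.subgroupOf M) inferInstance ?_ hw
    rw [Nat.card_congr (subgroupOfEquivOfLe le_normalizer).toEquiv]
    exact (h.odd_coreJoin hC).coprime_two_right
  exact hW1 (le_bot_iff.1 ((hWO.trans (h1221 G M hse)).trans hO.le))

/-- A normal elementary abelian subgroup of order 8 covers. -/
theorem allCovered_of_normal {V : Subgroup G} (hVS : V ≤ (S : Subgroup G))
    (hV : Cfsg.IsElementaryAbelian 2 V) (h4 : 4 < Nat.card V)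
    (hSV : (S : Subgroup G) ≤ normalizer (V : Set G)) : AllCovered S U := by
  intro a ha ha2
  obtain ⟨E, hE1, haE, hE, hE4⟩ := exists_eight_through hVS hV h4 hSV ha ha2
  refine ⟨1, one_mem _, E, hE1.trans inf_le_left, hE, hE4, ?_⟩
  simpa using haE

end CfsgLib.CoreKill
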