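import Cfsg.Agent.Lib.CoreKill.RankTwoCore
import Cfsg.Agent.Lib.Involutions.StronglyEmbedded
import Cfsg.Agent.Lib.FTCons.CoreCompletion
import Cfsg.Prelude.Def_Involutions

/-!
Killing the cores of the involution centralizers: when these are 2-constrained and their cores generate
one proper subgroup `W`, the normalizer of `W` is strongly embedded.
-/

set_option autoImplicit false

namespace CfsgLib.CoreKill

open Subgroup CfsgLib.SignalizerConn42

universe u

variable {G : Type u} [Group G] [Finite G]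

/-- The core of a strongly embedded subgroup lies in the core of the group (statement S1221). -/
def SECore : Prop :=
  ∀ (G : Type u) [Group G] [Finite G] (H : Subgroup G), Cfsg.IsStronglyEmbedded H →
    (Cfsg.oddCore ↥H).map H.subtype ≤ Cfsg.oddCore G

theorem conj_order {g x : G} : orderOf (g * x * g⁻¹) = orderOf x :=
  MulEquiv.orderOf_eq (MulAut.conj g) x

theorem isPGroup_of_elemAb {E : Subgroup G} (hE : Cfsg.IsElementaryAbelian 2 E) : IsPGroup 2 E :=
  fun u => ⟨1, Subtype.ext (by simpa using hE.2 _ u.2)⟩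

theorem not_rankLE_one {B F : Subgroup G} (hF : Cfsg.IsElementaryAbelian 2 F) (hFB : F ≤ B)
    (h2 : 2 < Nat.card F) : ¬ Cfsg.PRankLE 2 1 ↥B := by
  intro h
  have h1 := h (F.subgroupOf B)
    ⟨⟨fun a b => Subtype.ext (Subtype.ext
      (CfsgLib.FTCons.commute_of_elemAb hF a.2 b.2))⟩⟩ (fun a ha => Subtype.ext (hF.2 _ ha))
  rw [Nat.card_congr (subgroupOfEquivOfLe hFB).toEquiv] at h1
  omega

/-- The hypotheses: every subgroup of `S` of 2-rank at least two has its normalizer in `M`. -/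
structure BigNorm (S : Sylow 2 G) (M : Subgroup G) : Prop where
  le : (S : Subgroup G) ≤ M
  big : ∀ B : Subgroup G, B ≤ (S : Subgroup G) → ¬ Cfsg.PRankLE 2 1 ↥B →
    normalizer (B : Set G) ≤ M

variable {S : Sylow 2 G} {M : Subgroup G}

/-- A 2-subgroup of `M` is conjugate in `M` into `S`. -/
theorem BigNorm.exists_conj (h : BigNorm S M) {D : Subgroup G} (hD : IsPGroup 2 D) (hDM : D ≤ M) :
    ∃ m ∈ M, ∀ d ∈ D, m * d * m⁻¹ ∈ (S : Subgroup G) := by
  have : Fact (Nat.Prime 2) := ⟨Nat.prime_two⟩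
  obtain ⟨P, hP⟩ := (hD.comap_subtype (K := M)).exists_le_sylow
  obtain ⟨m, hm⟩ := MulAction.exists_smul_eq M P (S.subtype h.le)
  refine ⟨m, m.2, fun d hd => ?_⟩
  have h1 : m * ⟨d, hDM hd⟩ * m⁻¹ ∈ ((S.subtype h.le : Sylow 2 M) : Subgroup M) := by
    rw [← hm, Sylow.coe_subgroup_smul]
    exact smul_mem_pointwise_smul _ _ _ (hP (show (⟨d, hDM hd⟩ : M) ∈ D.comap M.subtype from hd))
  simpa [Sylow.coe_subtype, mem_subgroupOf] using h1

theorem BigNorm.normalizer_le (h : BigNorm S M) {D : Subgroup G} (hD : IsPGroup 2 D) (hDM : D ≤ M)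
    (hrk : ∃ F : Subgroup G, F ≤ D ∧ Cfsg.IsElementaryAbelian 2 F ∧ 2 < Nat.card F) :
    normalizer (D : Set G) ≤ M := by
  obtain ⟨F, hFD, hF, hF2⟩ := hrk
  obtain ⟨m, hm, hmD⟩ := h.exists_conj hD hDM
  set f : G →* G := (MulAut.conj m).toMonoidHom with hf
  have hB : D.map f ≤ (S : Subgroup G) := by
    rintro _ ⟨d, hd, rfl⟩
    exact hmD d hd
  have : IsMulCommutative F := hF.1
  have hle := h.big _ hB (not_rankLE_one (F := F.map f)
    ⟨Subgroup.map_isMulCommutative F f, by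
      rintro _ ⟨y, hy, rfl⟩
      rw [← map_pow, hF.2 y hy, map_one]⟩ (map_mono hFD)
    (by rw [card_map_of_injective (MulAut.conj m).injective]; exact hF2))
  intro g hg
  have h1 := hle (le_normalizer_map f ⟨g, hg, rfl⟩)
  have h2 : m * g * m⁻¹ ∈ M := h1
  have h3 := M.mul_mem (M.mul_mem (M.inv_mem hm) h2) hm
  simpa [mul_assoc] using h3

/-- A 2-subgroup meeting `M` in 2-rank at least two lies in `M`. -/
theorem BigNorm.two_group_le (h : BigNorm S M) {T : Subgroup G} (hT : IsPGroup 2 T)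
    (hrk : ∃ F : Subgroup G, F ≤ T ⊓ M ∧ Cfsg.IsElementaryAbelian 2 F ∧ 2 < Nat.card F) : T ≤ M := by
  have : Fact (Nat.Prime 2) := ⟨Nat.prime_two⟩
  by_contra hle
  have hlt : T ⊓ M < T := lt_of_le_of_ne inf_le_left fun e => hle (inf_eq_left.1 e)
  obtain ⟨y, hyT, hyD, hyN⟩ := CfsgLib.Involutions.exists_mem_normalizer_notMem hT hlt
  exact hyD ⟨hyT, h.normalizer_le (hT.to_le inf_le_left) inf_le_right hrk hyN⟩

/-- A 2-constrained centralizer with core in `M` and an elementary subgroup of order 8 in `M`. -/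
theorem BigNorm.centralizer_le (h : BigNorm S M) (K : Subgroup G)
    (hK : Cfsg.IsPConstrained 2 ↥K) (hO : (Cfsg.pPrimeCore 2 ↥K).map K.subtype ≤ M)
    {E : Subgroup G} (hE : Cfsg.IsElementaryAbelian 2 E) (hEK : E ≤ K) (hEM : E ≤ M)
    (h8 : 4 < Nat.card E) : K ≤ M := by
  classical
  have : Fact (Nat.Prime 2) := ⟨Nat.prime_two⟩
  obtain ⟨T, hT⟩ := ((isPGroup_of_elemAb hE).comap_subtype (K := K)).exists_le_sylow
  have hTM : (T : Subgroup K).map K.subtype ≤ M :=
    h.two_group_le (T.isPGroup'.map _) ⟨E, fun e he => ⟨⟨⟨e, hEK he⟩, hT he, rfl⟩, hEM he⟩, hE,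
      by omega⟩
  set N := Cfsg.pPrimeCore 2 ↥K with hN
  have : N.Normal := Cfsg.pPrimeCore_normal 2 _
  have hNc : (Nat.card N).Coprime 2 := CfsgLib.PCore.pPrimeCore_coprime
  set π := QuotientGroup.mk' N with hπ
  -- `π` is injective on `T`
  have hinj : ∀ a ∈ (T : Subgroup K), π a = 1 → a = 1 := fun a ha e =>
    CfsgLib.PLocal.eq_one_of_mem_pGroup_of_mem_coprime T.isPGroup' hNc ha
      ((QuotientGroup.eq_one_iff a).1 e)
  set E₀ := E.subgroupOf K with hE₀
  have hinjOn : Function.Injective (π.comp E₀.subtype) := by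
    rw [injective_iff_map_eq_one]
    intro a ha
    exact Subtype.ext (hinj a (hT a.2) ha)
  have hEbar : Cfsg.IsElementaryAbelian 2 (E₀.map π) := by
    refine ⟨⟨⟨fun a b => ?_⟩⟩, ?_⟩
    · obtain ⟨a', ha', ha⟩ := a.2
      obtain ⟨b', hb', hb⟩ := b.2
      refine Subtype.ext ?_
      show (a : K ⧸ N) * b = b * a
      rw [← ha, ← hb, ← map_mul, ← map_mul]
      exact congrArg π (Subtype.ext (CfsgLib.FTCons.commute_of_elemAb hE ha' hb'))
    · rintro _ ⟨y, hy, rfl⟩
      rw [← map_pow, show y ^ 2 = 1 from Subtype.ext (hE.2 _ hy), map_one]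
  have hEcard : Nat.card (E₀.map π) = Nat.card E := by
    rw [← Nat.card_congr (subgroupOfEquivOfLe hEK).toEquiv]
    have := card_map_of_injective (K := (⊤ : Subgroup E₀)) hinjOn
    rwa [← map_map, ← MonoidHom.range_eq_map, range_subtype, Subgroup.card_top] at this
  obtain ⟨F, hFQ, hF, hF2⟩ :=
    exists_four_le_pCore (CfsgLib.PLocal.isPConstrained_iff.1 hK) hEbar
      (by rw [hEcard]; exact h8)
  rw [← CfsgLib.PLocal.map_sylow_inf_pPrimePCore T] at hFQ
  set Q : Subgroup K := (T : Subgroup K) ⊓ Cfsg.pPrimePCore 2 K with hQ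
  set F₀ : Subgroup K := Q ⊓ F.comap π with hF₀
  have hF₀map : F₀.map π = F := by
    refine le_antisymm ((map_mono inf_le_right).trans (map_comap_le _ _)) fun f hf => ?_
    obtain ⟨q, hq, rfl⟩ := hFQ hf
    exact ⟨q, ⟨hq, hf⟩, rfl⟩
  have hF₀e : Cfsg.IsElementaryAbelian 2 (F₀.map K.subtype) := by
    refine ⟨⟨⟨fun a b => ?_⟩⟩, ?_⟩
    · obtain ⟨a', ha', ha⟩ := a.2
      obtain ⟨b', hb', hb⟩ := b.2
      refine Subtype.ext ?_
      show (a : G) * b = b * a
      rw [← ha, ← hb, ← map_mul, ← map_mul]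
      congr 1
      have h1 : π (a' * b' * (b' * a')⁻¹) = 1 := by
        rw [map_mul π, map_inv, map_mul π, map_mul π,
          CfsgLib.FTCons.commute_of_elemAb hF ha'.2 hb'.2, mul_inv_cancel]
      exact mul_inv_eq_one.1 (hinj _ (mul_mem (mul_mem ha'.1.1 hb'.1.1)
        (inv_mem (mul_mem hb'.1.1 ha'.1.1))) h1)
    · rintro _ ⟨y, hy, rfl⟩
      rw [← map_pow]
      have : y ^ 2 = 1 := hinj _ (pow_mem hy.1.1 2) (by rw [map_pow]; exact hF.2 _ hy.2)
      rw [this, map_one]
  have hF₀2 : 2 < Nat.card (F₀.map K.subtype) := by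
    rw [card_map_of_injective K.subtype_injective]
    have h1 : Nat.card F ≤ Nat.card F₀ := by
      rw [← hF₀map]
      exact Nat.le_of_dvd Nat.card_pos (card_map_dvd _ _)
    omega
  have hQM : normalizer (Q.map K.subtype : Set G) ≤ M :=
    h.normalizer_le ((T.isPGroup'.to_le inf_le_left).map _) ((map_mono inf_le_left).trans hTM)
      ⟨_, map_mono inf_le_left, hF₀e, hF₀2⟩
  intro g hg
  set x : K := ⟨g, hg⟩ with hx
  have hQn : (Q.map π).Normal := by
    rw [hQ, CfsgLib.PLocal.map_sylow_inf_pPrimePCore T]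
    exact Cfsg.pCore_normal 2 _
  obtain ⟨n, hn, hnx⟩ := CfsgLib.PLocal.exists_mul_mem_normalizer (N := N) hNc
    (T.isPGroup'.to_le (inf_le_left : Q ≤ _)) (x := x) fun y hy => by
      rw [map_mul, map_mul, map_inv]
      exact hQn.conj_mem _ (mem_map_of_mem π hy) _
  have h1 : (n : G) * g ∈ M := hQM (le_normalizer_map K.subtype ⟨n * x, hnx, rfl⟩)
  simpa using M.mul_mem (M.inv_mem (hO (mem_map_of_mem K.subtype hn))) h1

/-- In a 2-group with a normal elementary abelian subgroup of order at least 8, every involution lies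
in an elementary abelian subgroup of order at least 8. -/
theorem exists_eight_through {P V : Subgroup G} (hVP : V ≤ P)
    (hV : Cfsg.IsElementaryAbelian 2 V) (h4 : 4 < Nat.card V) (hPV : P ≤ normalizer (V : Set G))
    {x : G} (hx : x ∈ P) (hx2 : orderOf x = 2) :
    ∃ E : Subgroup G, E ≤ P ⊓ centralizer {x} ∧ x ∈ E ∧ Cfsg.IsElementaryAbelian 2 E ∧
      4 < Nat.card E := by
  classical
  by_cases hxV : x ∈ V
  · exact ⟨V, le_inf hVP fun v hv => mem_centralizer_singleton_iff.2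
      (CfsgLib.FTCons.commute_of_elemAb hV hv hxV), hxV, hV, h4⟩
  have hxn : ∀ v ∈ V, x * v * x⁻¹ ∈ V := fun v hv => (mem_normalizer_iff.1 (hPV hx) v).1 hv
  let : CommGroup V :=
    { (inferInstance : Group V) with mul_comm := fun a b => hV.1.is_comm.comm a b }
  have hxx : x * x = 1 := by rw [← pow_two, ← hx2, pow_orderOf_eq_one]
  let φ : V →* V := MonoidHom.mk' (fun v => v * ⟨x * v * x⁻¹, hxn v v.2⟩) fun v w => by
    refine Subtype.ext ?_
    have hc := CfsgLib.FTCons.commute_of_elemAb hV (hxn v v.2) w.2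
    show (v : G) * w * (x * (v * w) * x⁻¹) = v * (x * v * x⁻¹) * (w * (x * w * x⁻¹))
    calc (v : G) * w * (x * (v * w) * x⁻¹) = v * ((w : G) * (x * v * x⁻¹)) * (x * w * x⁻¹) := by
          group
      _ = v * ((x * v * x⁻¹) * w) * (x * w * x⁻¹) := by rw [hc]
      _ = _ := by group
  set F := V ⊓ centralizer {x} with hF
  have hker : φ.ker.map V.subtype = F := by
    refine le_antisymm ?_ ?_
    · rintro _ ⟨v, hv, rfl⟩
      have h1 : (v : G) * (x * v * x⁻¹) = 1 := congrArg Subtype.val hv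
      have h2 : (v : G)⁻¹ = v := inv_eq_of_mul_eq_one_right (by rw [← pow_two]; exact hV.2 _ v.2)
      refine ⟨v.2, mem_centralizer_singleton_iff.2 ?_⟩
      rw [← eq_inv_of_mul_eq_one_right h1] at h2
      exact (mul_inv_eq_iff_eq_mul.1 h2).symm
    · rintro v ⟨hv, hc⟩
      refine ⟨⟨v, hv⟩, Subtype.ext ?_, rfl⟩
      show v * (x * v * x⁻¹) = 1
      rw [← mem_centralizer_singleton_iff.1 hc, mul_inv_cancel_right, ← pow_two]
      exact hV.2 v hv
  have hcard : 2 < Nat.card F := by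
    rw [← hker, card_map_of_injective V.subtype_injective]
    have hrange : φ.range ≤ φ.ker := by
      rintro _ ⟨v, rfl⟩
      refine Subtype.ext ?_
      show (v : G) * (x * v * x⁻¹) * (x * (v * (x * v * x⁻¹)) * x⁻¹) = 1
      have hc := CfsgLib.FTCons.commute_of_elemAb hV (hxn v v.2) v.2
      calc (v : G) * (x * v * x⁻¹) * (x * (v * (x * v * x⁻¹)) * x⁻¹)
          = v * ((x * v * x⁻¹) * (x * v * x⁻¹)) * ((x * x) * v * (x * x)⁻¹) := by group
        _ = v * (x * (v * v) * x⁻¹) * v := by rw [hxx]; group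
        _ = 1 := by
          rw [← pow_two (v : G), hV.2 _ v.2, mul_one, mul_inv_cancel, mul_one, ← pow_two,
            hV.2 _ v.2]
    have h1 := Subgroup.card_mul_index φ.ker
    rw [Subgroup.index_ker] at h1
    have h2 := card_le_of_le hrange
    by_contra h3
    have h5 : Nat.card V ≤ 2 * 2 := h1 ▸ Nat.mul_le_mul (by omega) (by omega)
    omega
  have hE : Cfsg.IsElementaryAbelian 2 (F ⊔ zpowers x : Subgroup G) := by
    refine elemAb_sup ⟨⟨⟨fun a b => Subtype.ext
      (CfsgLib.FTCons.commute_of_elemAb hV a.2.1 b.2.1)⟩⟩, fun v hv => hV.2 v hv.1⟩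
      (elemAb_zpowers (hx2 ▸ pow_orderOf_eq_one x)) fun v hv y hy => ?_
    obtain ⟨k, rfl⟩ := mem_zpowers_iff.1 hy
    exact ((show Commute v x from mem_centralizer_singleton_iff.1 hv.2).zpow_right k).eq
  refine ⟨F ⊔ zpowers x, le_inf (sup_le (inf_le_left.trans hVP) (zpowers_le.2 hx))
    (sup_le inf_le_right (zpowers_le.2 (mem_centralizer_singleton_iff.2 rfl))),
    mem_sup_right (mem_zpowers x), hE, ?_⟩
  obtain ⟨i, hi⟩ := IsPGroup.iff_card.1 (isPGroup_of_elemAb hE)
  have hlt : F < F ⊔ zpowers x := lt_of_le_of_ne le_sup_left fun e =>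
    hxV (show x ∈ F from e ▸ mem_sup_right (mem_zpowers x)).1
  have hd := card_dvd_of_le hlt.le
  have hne : Nat.card F ≠ Nat.card (F ⊔ zpowers x : Subgroup G) := fun e =>
    hlt.ne (eq_of_le_of_card_ge hlt.le e.ge)
  obtain ⟨c, hc⟩ := hd
  have : 2 ≤ c := by
    rcases c with _ | _ | c
    · have := Nat.card_pos (α := (F ⊔ zpowers x : Subgroup G)); omega
    · omega
    · omega
  calc 4 < Nat.card F * 2 := by omega
    _ ≤ Nat.card F * c := Nat.mul_le_mul le_rfl this
    _ = _ := hc.symm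

theorem two_dvd_card {P V : Subgroup G} (hVP : V ≤ P) (hV : Cfsg.IsElementaryAbelian 2 V)
    (h4 : 4 < Nat.card V) : 2 ∣ Nat.card P := by
  obtain ⟨i, hi⟩ := IsPGroup.iff_card.1 (isPGroup_of_elemAb hV)
  rcases i with _ | i
  · rw [pow_zero] at hi; omega
  · exact (hi ▸ dvd_pow_self 2 (Nat.succ_ne_zero i)).trans (card_dvd_of_le hVP)

/-- The normalizer of the completion is strongly embedded. -/
theorem BigNorm.stronglyEmbedded (h : BigNorm S M) (hne : M ≠ ⊤) (h2 : 2 ∣ Nat.card (S : Subgroup G))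
    (hC : ∀ x ∈ (S : Subgroup G), orderOf x = 2 → centralizer ({x} : Set G) ≤ M) :
    Cfsg.IsStronglyEmbedded M := by
  classical
  have : Fact (Nat.Prime 2) := ⟨Nat.prime_two⟩
  have heven : Even (Nat.card M) := even_iff_two_dvd.2 (h2.trans (card_dvd_of_le h.le))
  refine CfsgLib.Involutions.isStronglyEmbedded_of_normalizers hne heven fun X hXM hX hX1 => ?_
  obtain ⟨z, hzX, hz2, hzc⟩ : ∃ z ∈ X, orderOf z = 2 ∧ ∀ y ∈ X, y * z = z * y := by
    have : Nontrivial X := (nontrivial_iff_ne_bot X).2 hX1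
    have := hX.center_nontrivial
    have hd : 2 ∣ Nat.card (center X) := by
      obtain ⟨j, hj⟩ := IsPGroup.iff_card.mp (hX.to_subgroup (center X))
      rcases j with _ | j
      · rw [pow_zero] at hj
        exact absurd hj (ne_of_gt Finite.one_lt_card)
      · exact hj ▸ dvd_pow_self 2 (Nat.succ_ne_zero j)
    obtain ⟨z, hz⟩ := exists_prime_orderOf_dvd_card' (G := center X) 2 hd
    exact ⟨(z : X), (z : X).2, by rw [Subgroup.orderOf_coe, Subgroup.orderOf_coe]; exact hz,
      fun y hy => congrArg Subtype.val (mem_center_iff.1 z.2 ⟨y, hy⟩)⟩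
  by_cases hbig : ∃ F : Subgroup G, F ≤ X ∧ Cfsg.IsElementaryAbelian 2 F ∧ 2 < Nat.card F
  · exact h.normalizer_le hX hXM hbig
  intro g hg
  have hgz : g * z * g⁻¹ ∈ X := (mem_normalizer_iff.1 hg z).1 hzX
  have heq : g * z * g⁻¹ = z := by
    by_contra hne'
    refine hbig ⟨zpowers z ⊔ zpowers (g * z * g⁻¹), sup_le (zpowers_le.2 hzX) (zpowers_le.2 hgz),
      elemAb_sup (elemAb_zpowers (hz2 ▸ pow_orderOf_eq_one z))
        (elemAb_zpowers (by rw [conj_pow, ← hz2, pow_orderOf_eq_one, mul_one, mul_inv_cancel]))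
        fun u hu v hv => ?_, ?_⟩
    · obtain ⟨i, rfl⟩ := mem_zpowers_iff.1 hu
      obtain ⟨j, rfl⟩ := mem_zpowers_iff.1 hv
      exact (Commute.zpow_zpow (hzc _ hgz).symm i j).eq
    · have hlt : zpowers z < zpowers z ⊔ zpowers (g * z * g⁻¹) :=
        lt_of_le_of_ne le_sup_left fun e => by
          have h1 : g * z * g⁻¹ ∈ zpowers z := e ▸ mem_sup_right (mem_zpowers _)
          obtain ⟨k, hk⟩ := mem_zpowers_iff.1 h1
          rw [← zpow_mod_orderOf, hz2] at hk
          rcases Int.emod_two_eq_zero_or_one k with e1 | e1 <;> norm_num [e1] at hk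
          · have e2 : z = 1 := conj_eq_one_iff.1 hk.symm
            rw [e2, orderOf_one] at hz2
            omega
          · exact hne' hk.symm
      have h3 : Nat.card (zpowers z) < Nat.card (zpowers z ⊔ zpowers (g * z * g⁻¹) : Subgroup G) :=
        lt_of_le_of_ne (card_le_of_le hlt.le) fun e => hlt.ne (eq_of_le_of_card_ge hlt.le e.ge)
      rwa [Nat.card_zpowers, hz2] at h3
  obtain ⟨m, hm, hmz⟩ := h.exists_conj (hX.to_le (zpowers_le.2 hzX)) ((zpowers_le.2 hzX).trans hXM)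
  have hc : m * g * m⁻¹ ∈ M := hC _ (hmz z (mem_zpowers z))
    (by rw [conj_order, hz2]) (mem_centralizer_singleton_iff.2 (by
      calc m * g * m⁻¹ * (m * z * m⁻¹) = m * ((g * z * g⁻¹) * g) * m⁻¹ := by group
        _ = m * (z * g) * m⁻¹ := by rw [heq]
        _ = m * z * m⁻¹ * (m * g * m⁻¹) := by group))
  simpa [mul_assoc] using M.mul_mem (M.mul_mem (M.inv_mem hm) hc) hm

end CfsgLib.CoreKill
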