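import Cfsg.Agent.Lib.PLocal.Constraint
import Cfsg.Agent.Lib.SignalizerConn42

/-!
Elements of a 2-constrained involution centralizer that act trivially on a Sylow 2-subgroup modulo the
involution lie in `O_{2',2}`, and commute with odd subgroups they normalize modulo the core.
-/

set_option autoImplicit false

namespace CfsgLib.CoreKill

open Subgroup
open CfsgLib.LocalEvenCharP (IsCharP)

/-- In a group of characteristic 2, an element stabilizing `O₂ > ⟨z⟩ > 1` (`z` central) lies in `O₂`. -/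
theorem mem_pCore_of_conj {C : Type*} [Group C] [Finite C] (hC : IsCharP 2 C) {z u : C}
    (hzc : ∀ c : C, c * z = z * c) (hz : z * z = 1)
    (hu : ∀ q ∈ Cfsg.pCore 2 C, u * q * u⁻¹ = q ∨ u * q * u⁻¹ = q * z) : u ∈ Cfsg.pCore 2 C := by
  have : Fact (Nat.Prime 2) := ⟨Nat.prime_two⟩
  set Q := Cfsg.pCore 2 C with hQ
  have : Q.Normal := Cfsg.pCore_normal 2 C
  let K : Subgroup C :=
    { carrier := {c | ∀ q ∈ Q, c * q * c⁻¹ = q ∨ c * q * c⁻¹ = q * z}
      one_mem' := fun q _ => Or.inl (by group)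
      mul_mem' := fun {a b} ha hb q hq => by
        have e : a * b * q * (a * b)⁻¹ = a * (b * q * b⁻¹) * a⁻¹ := by group
        rw [e]
        rcases hb q hq with h | h <;> rw [h]
        · exact ha q hq
        · have e2 : a * (q * z) * a⁻¹ = a * q * a⁻¹ * z := by
            calc a * (q * z) * a⁻¹ = a * q * (z * a⁻¹) := by group
              _ = a * q * (a⁻¹ * z) := by rw [hzc]
              _ = a * q * a⁻¹ * z := by group
          rw [e2]
          rcases ha q hq with h' | h' <;> rw [h']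
          · exact Or.inr rfl
          · exact Or.inl (by rw [mul_assoc, hz, mul_one])
      inv_mem' := fun {a} ha q hq => by
        rcases ha _ (‹Q.Normal›.conj_mem q hq a⁻¹) with h | h
        · left
          have : a * (a⁻¹ * q * a⁻¹⁻¹) * a⁻¹ = q := by group
          rw [this] at h
          exact h.symm
        · right
          have : a * (a⁻¹ * q * a⁻¹⁻¹) * a⁻¹ = q := by group
          rw [this] at h
          calc a⁻¹ * q * a⁻¹⁻¹ = a⁻¹ * q * a⁻¹⁻¹ * (z * z) := by rw [hz, mul_one]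
            _ = q * z := by rw [← mul_assoc, ← h] }
  have hKn : K.Normal := ⟨fun c hc g q hq => by
    have h1 : g⁻¹ * q * g⁻¹⁻¹ ∈ Q := ‹Q.Normal›.conj_mem q hq g⁻¹
    have e : g * c * g⁻¹ * q * (g * c * g⁻¹)⁻¹ = g * (c * (g⁻¹ * q * g⁻¹⁻¹) * c⁻¹) * g⁻¹ := by
      group
    rw [e]
    rcases hc _ h1 with h | h <;> rw [h]
    · left; group
    · right
      calc g * (g⁻¹ * q * g⁻¹⁻¹ * z) * g⁻¹ = q * (g * (z * g⁻¹)) := by group
        _ = q * (g * (g⁻¹ * z)) := by rw [hzc]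
        _ = q * z := by group⟩
  have hKp : IsPGroup 2 K := fun k => by
    have hk2 : (k : C) * k ∈ Q := hC (mem_centralizer_iff.2 fun q hq => by
      have h1 : (k : C) * k * q * ((k : C) * k)⁻¹ = q := by
        have e : (k : C) * k * q * ((k : C) * k)⁻¹ = k * (k * q * (k : C)⁻¹) * (k : C)⁻¹ := by group
        rw [e]
        rcases k.2 q hq with h | h <;> rw [h]
        · exact h
        · calc (k : C) * (q * z) * (k : C)⁻¹ = k * q * (z * (k : C)⁻¹) := by group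
            _ = k * q * ((k : C)⁻¹ * z) := by rw [hzc]
            _ = k * q * (k : C)⁻¹ * z := by group
            _ = q := by rw [h, mul_assoc, hz, mul_one]
      exact (mul_inv_eq_iff_eq_mul.1 h1).symm)
    obtain ⟨n, hn⟩ := CfsgLib.PCore.pCore_isPGroup (p := 2) (G := C) ⟨_, hk2⟩
    refine ⟨n + 1, Subtype.ext ?_⟩
    have := congrArg Subtype.val hn
    simp only [SubmonoidClass.coe_pow, OneMemClass.coe_one] at this ⊢
    rw [pow_succ', pow_mul, pow_two]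
    exact this
  exact CfsgLib.PCore.le_pCore hKn hKp (show u ∈ K from hu)

variable {G : Type*} [Group G] [Finite G]

/-- An element of `K = C(x)` stabilizing `T > ⟨x⟩ > 1` for a Sylow 2-subgroup `T` lies in `O_{2',2}(K)`. -/
theorem mem_pPrimePCore_of_conj {x : G} (hx : x * x = 1)
    {K : Subgroup G} (hxK : x ∈ K) (hKx : K ≤ centralizer ({x} : Set G))
    (hK : Cfsg.IsPConstrained 2 ↥K) (T : Sylow 2 ↥K) {u : G} (hu : u ∈ K)
    (h : ∀ q ∈ (T : Subgroup ↥K), u * (q : G) * u⁻¹ = q ∨ u * (q : G) * u⁻¹ = q * x) :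
    (⟨u, hu⟩ : ↥K) ∈ Cfsg.pPrimePCore 2 ↥K := by
  have : Fact (Nat.Prime 2) := ⟨Nat.prime_two⟩
  set x' : K := ⟨x, hxK⟩ with hx'
  have : (Cfsg.pPrimeCore 2 ↥K).Normal := Cfsg.pPrimeCore_normal 2 _
  set π := QuotientGroup.mk' (Cfsg.pPrimeCore 2 ↥K) with hπ
  have h1 : π ⟨u, hu⟩ ∈ Cfsg.pCore 2 (↥K ⧸ Cfsg.pPrimeCore 2 ↥K) := by
    refine mem_pCore_of_conj (CfsgLib.PLocal.isPConstrained_iff.1 hK) (z := π x') ?_ ?_ ?_
    · intro c
      obtain ⟨c, rfl⟩ := QuotientGroup.mk'_surjective _ c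
      rw [← map_mul, ← map_mul]
      exact congrArg π (Subtype.ext (mem_centralizer_singleton_iff.1 (hKx c.2)))
    · rw [← map_mul, show x' * x' = 1 from Subtype.ext hx, map_one]
    · intro q hq
      rw [← CfsgLib.PLocal.map_sylow_inf_pPrimePCore T] at hq
      obtain ⟨q, hq, rfl⟩ := hq
      rcases h q hq.1 with e | e
      · left; rw [← map_inv, ← map_mul, ← map_mul]; exact congrArg π (Subtype.ext e)
      · right; rw [← map_inv, ← map_mul, ← map_mul, ← map_mul]; exact congrArg π (Subtype.ext e)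
  rw [← CfsgLib.PCore.map_pPrimePCore] at h1
  obtain ⟨v, hv, hvu⟩ := h1
  have h2 : v⁻¹ * ⟨u, hu⟩ ∈ Cfsg.pPrimeCore 2 ↥K := QuotientGroup.eq.1 hvu
  have h3 := (Cfsg.pPrimePCore 2 ↥K).mul_mem hv (CfsgLib.PCore.pPrimeCore_le_pPrimePCore h2)
  rwa [mul_inv_cancel_left] at h3

/-- A 2-element in `O_{2',2}(K)` centralizes modulo `O(K)` each odd subgroup of `K` it normalizes. -/
theorem commutator_mem_core {x : G} {z : G} (hz : z ∈ centralizer ({x} : Set G))
    (hzQ : (⟨z, hz⟩ : ↥(centralizer ({x} : Set G))) ∈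
      Cfsg.pPrimePCore 2 ↥(centralizer ({x} : Set G)))
    {Y : Subgroup G} (hY : Odd (Nat.card Y)) (hYK : Y ≤ centralizer ({x} : Set G))
    (hzY : ∀ y ∈ Y, z * y * z⁻¹ ∈ Y) {y : G} (hy : y ∈ Y) :
    z * y * z⁻¹ * y⁻¹ ∈ Cfsg.centralizerPPrimeCore 2 x := by
  have : Fact (Nat.Prime 2) := ⟨Nat.prime_two⟩
  set K := centralizer ({x} : Set G)
  have : (Cfsg.pPrimeCore 2 ↥K).Normal := Cfsg.pPrimeCore_normal 2 _
  set π := QuotientGroup.mk' (Cfsg.pPrimeCore 2 ↥K) with hπ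
  have hcY : z * y * z⁻¹ * y⁻¹ ∈ Y := Y.mul_mem (hzY y hy) (Y.inv_mem hy)
  set c : K := ⟨z, hz⟩ * ⟨y, hYK hy⟩ * ⟨z, hz⟩⁻¹ * ⟨y, hYK hy⟩⁻¹ with hc
  have hn : (Cfsg.pCore 2 (↥K ⧸ Cfsg.pPrimeCore 2 ↥K)).Normal := Cfsg.pCore_normal 2 _
  have h1 : π c ∈ Cfsg.pCore 2 (↥K ⧸ Cfsg.pPrimeCore 2 ↥K) := by
    have hzb : π ⟨z, hz⟩ ∈ Cfsg.pCore 2 (↥K ⧸ Cfsg.pPrimeCore 2 ↥K) := by
      rw [← CfsgLib.PCore.map_pPrimePCore]
      exact mem_map_of_mem π hzQ
    have e : π c = π ⟨z, hz⟩ * (π ⟨y, hYK hy⟩ * (π ⟨z, hz⟩)⁻¹ * (π ⟨y, hYK hy⟩)⁻¹) := by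
      rw [hc]; simp only [map_mul, map_inv]; group
    rw [e]
    exact mul_mem hzb (hn.conj_mem _ (inv_mem hzb) _)
  obtain ⟨n, hn2⟩ := CfsgLib.PCore.pCore_isPGroup (p := 2) ⟨_, h1⟩
  have h2 : orderOf (π c) ∣ 2 ^ n := orderOf_dvd_of_pow_eq_one (congrArg Subtype.val hn2)
  have h3 : orderOf (π c) ∣ Nat.card Y := by
    refine (orderOf_map_dvd π c).trans ?_
    rw [← Subgroup.orderOf_coe c]
    exact Y.orderOf_dvd_natCard hcY
  have h4 : π c = 1 := orderOf_eq_one_iff.1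
    (Nat.eq_one_of_dvd_coprimes ((hY.coprime_two_right).symm.pow_left n) h2 h3)
  exact ⟨c, (QuotientGroup.eq_one_iff c).1 h4, rfl⟩

end CfsgLib.CoreKill
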