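import Cfsg.Agent.Lib.CoreKill.Completion
import Cfsg.Agent.Lib.CoreKill.InCore
import Cfsg.Agent.Lib.Transfer.Basic
import Cfsg.Agent.Lib.CIT.MaxClassBasic

/-!
In a group of 2-rank at least 3 without subgroups of index 2, with 2-constrained involution centralizers,
every involution of a Sylow 2-subgroup is conjugate under `N(W)` into an elementary abelian subgroup of
order 8 of that Sylow subgroup.
-/

set_option autoImplicit false

namespace CfsgLib.CoreKill

open Subgroup CfsgLib.SignalizerConn42 CfsgLib.FTCons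

universe u

variable {G : Type u} [Group G] [Finite G] {S : Sylow 2 G} {U : Subgroup G}

theorem exists_le_sylow_in {K D : Subgroup G} (hD : IsPGroup 2 D) (hDK : D ≤ K) :
    ∃ P : Sylow 2 ↥K, D ≤ (P : Subgroup K).map K.subtype := by
  obtain ⟨P, hP⟩ := (hD.comap_subtype (K := K)).exists_le_sylow
  exact ⟨P, fun d hd => ⟨⟨d, hDK hd⟩, hP hd, rfl⟩⟩

/-- The involutions of `Z(T)`, with the identity. -/
def omegaCenter (T : Subgroup G) : Subgroup G where
  carrier := {v | v ∈ T ∧ v ^ 2 = 1 ∧ ∀ t ∈ T, t * v = v * t}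
  one_mem' := ⟨T.one_mem, one_pow _, fun t _ => by rw [mul_one, one_mul]⟩
  mul_mem' := fun {a b} ha hb => ⟨T.mul_mem ha.1 hb.1, by
      rw [(show Commute a b from hb.2.2 a ha.1).mul_pow, ha.2.1, hb.2.1, one_mul],
    fun t ht => (Commute.mul_right (show Commute t a from ha.2.2 t ht)
      (show Commute t b from hb.2.2 t ht)).eq⟩
  inv_mem' := fun {a} ha => ⟨T.inv_mem ha.1, by rw [inv_pow, ha.2.1, inv_one],
    fun t ht => (show Commute t a from ha.2.2 t ht).inv_right.eq⟩

theorem omegaCenter_normalized {T : Subgroup G} {g : G} (hg : g ∈ normalizer (T : Set G)) {v : G}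
    (hv : v ∈ omegaCenter T) : g * v * g⁻¹ ∈ omegaCenter T := by
  obtain ⟨h1, h2, h3⟩ := hv
  refine ⟨(mem_normalizer_iff.1 hg v).1 h1, by rw [conj_pow, h2, mul_one, mul_inv_cancel],
    fun t ht => ?_⟩
  have ht' : g⁻¹ * t * g ∈ T := (mem_normalizer_iff''.1 hg t).1 ht
  calc t * (g * v * g⁻¹) = g * ((g⁻¹ * t * g) * v) * g⁻¹ := by group
    _ = g * (v * (g⁻¹ * t * g)) * g⁻¹ := by rw [h3 _ ht']
    _ = g * v * g⁻¹ * t := by group

theorem FourFrame.normalizer_tT (h : FourFrame S U) :
    (S : Subgroup G) ≤ normalizer (tT S U : Set G) := by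
  intro s hs
  refine CfsgLib.Coprime.mem_normalizer_of_forall_conj fun t ht => ⟨?_, mem_centralizer_iff.2 ?_⟩
  · exact (S : Subgroup G).mul_mem ((S : Subgroup G).mul_mem hs ht.1) ((S : Subgroup G).inv_mem hs)
  · intro v hv
    have h1 : s⁻¹ * v * s ∈ U := (mem_normalizer_iff''.1 (h.norm hs) v).1 hv
    have h2 := mem_centralizer_iff.1 ht.2 _ h1
    calc v * (s * t * s⁻¹) = s * (s⁻¹ * v * s * t) * s⁻¹ := by group
      _ = s * (t * (s⁻¹ * v * s)) * s⁻¹ := by rw [h2]
      _ = s * t * s⁻¹ * v := by group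

theorem FourFrame.le_omegaCenter (h : FourFrame S U) : U ≤ omegaCenter (tT S U) := fun v hv =>
  ⟨h.le_tT hv, h.elem.2 v hv, fun _ ht => (mem_centralizer_iff.1 ht.2 v hv).symm⟩

theorem FourFrame.covered_of_mem_tT (h : FourFrame S U) {a : G} (ha : a ∈ tT S U)
    (ha2 : orderOf a = 2) : Covered S a := by
  obtain ⟨E, hES, hE, h4⟩ := h.big
  by_cases haU : a ∈ U
  · by_cases hbig : 4 < Nat.card (E ⊓ tT S U ⊔ U : Subgroup G)
    · exact ⟨_, sup_le (inf_le_left.trans hES) h.le, h.sup_inf hE, hbig, mem_sup_right haU⟩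
    have e1 : U = E ⊓ tT S U ⊔ U := eq_of_le_of_card_ge le_sup_right (by rw [h.card]; omega)
    have hle : E ⊓ tT S U ≤ U := le_sup_left.trans e1.ge
    have e2 : E ⊓ tT S U = U := by
      refine eq_of_le_of_card_ge hle ?_
      have h1 := h.card_inf_tT hES
      have h2 := eight_le_card hE h4
      rw [h.card]
      omega
    exact ⟨E, hES, hE, h4, (e2.ge.trans inf_le_left) haU⟩
  have hEU : Cfsg.IsElementaryAbelian 2 (U ⊔ zpowers a : Subgroup G) := by
    refine elemAb_sup h.elem (elemAb_zpowers (ha2 ▸ pow_orderOf_eq_one a)) fun v hv y hy => ?_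
    obtain ⟨k, rfl⟩ := mem_zpowers_iff.1 hy
    exact ((show Commute v a from mem_centralizer_iff.1 ha.2 v hv).zpow_right k).eq
  refine ⟨_, sup_le h.le (zpowers_le.2 ha.1), hEU, ?_, mem_sup_right (mem_zpowers a)⟩
  have hlt : U < U ⊔ zpowers a := lt_of_le_of_ne le_sup_left fun e =>
    haU (e ▸ mem_sup_right (mem_zpowers a))
  rw [← h.card]
  exact lt_of_le_of_ne (card_le_of_le hlt.le) fun e => hlt.ne (eq_of_le_of_card_ge hlt.le e.ge)

omit [Finite G] in
theorem elemAb_of_sq {D : Subgroup G} (h : ∀ x ∈ D, x * x = 1) : Cfsg.IsElementaryAbelian 2 D :=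
  ⟨⟨⟨fun a b => Subtype.ext (by
    have hi : ∀ x ∈ D, x⁻¹ = x := fun x hx => inv_eq_of_mul_eq_one_right (h x hx)
    calc (a : G) * b = ((a : G) * b)⁻¹ := (hi _ (D.mul_mem a.2 b.2)).symm
      _ = b * a := by rw [mul_inv_rev, hi _ a.2, hi _ b.2])⟩⟩,
    fun x hx => by rw [pow_two]; exact h x hx⟩

section Stage

variable (h : FourFrame S U) (hC : ConstrainedCentralizers G)
  (hUZ : omegaCenter (tT S U) ≤ U)

include h hC hUZ

/-- For `u ∈ U` off the centre, the central involution lies in `O_{2',2}(C(u))`. -/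
theorem FourFrame.central_mem_pPrimePCore {z u : G} (hz : z ∈ U) (hz2 : orderOf z = 2)
    (hzc : ∀ s ∈ (S : Subgroup G), s * z = z * s) (hu : u ∈ U) (hu1 : u ≠ 1) (huz : u ≠ z) :
    ∃ hzK : z ∈ centralizer ({u} : Set G),
      (⟨z, hzK⟩ : ↥(centralizer ({u} : Set G))) ∈
        Cfsg.pPrimePCore 2 ↥(centralizer ({u} : Set G)) := by
  have : Fact (Nat.Prime 2) := ⟨Nat.prime_two⟩
  have hcz : z * u = u * z := commute_of_elemAb h.elem hz hu
  have huu : u * u = 1 := by rw [← pow_two]; exact h.elem.2 u hu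
  have hzz : z * z = 1 := by rw [← pow_two]; exact h.elem.2 z hz
  have hTK : tT S U ≤ centralizer ({u} : Set G) := fun t ht =>
    mem_centralizer_singleton_iff.2 (mem_centralizer_iff.1 ht.2 u hu).symm
  obtain ⟨P, hP⟩ := exists_le_sylow_in (S.2.to_le inf_le_left) hTK
  set P' := (P : Subgroup ↥(centralizer ({u} : Set G))).map
    (centralizer ({u} : Set G)).subtype with hP'
  have hP'p : IsPGroup 2 P' := P.isPGroup'.map _
  have hPT : P' ≤ normalizer (tT S U : Set G) := by
    obtain ⟨R, hR⟩ := hP'p.exists_le_sylow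
    have h1 : Nat.card P' ≤ Nat.card (tT S U) * 2 := by
      refine (card_le_of_le hR).trans ?_
      rw [Nat.card_congr (Sylow.equiv R S).toEquiv]
      have := h.card_inf_tT (E := (S : Subgroup G)) le_rfl
      rwa [show (S : Subgroup G) ⊓ tT S U = tT S U from inf_eq_right.2 inf_le_left] at this
    have h2 := CfsgLib.LocalEvenSix.card_mul_relIndex' hP
    have h3 : (tT S U).relIndex P' ≤ 2 := by
      rw [← h2] at h1
      exact Nat.le_of_mul_le_mul_left h1 Nat.card_pos
    have hne : (tT S U).relIndex P' ≠ 0 := FiniteIndex.index_ne_zero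
    rcases (show (tT S U).relIndex P' = 1 ∨ (tT S U).relIndex P' = 2 by omega) with e | e
    · exact (relIndex_eq_one.1 e).trans le_normalizer
    · have : ((tT S U).subgroupOf P').Normal := normal_of_index_eq_two e
      exact (normal_subgroupOf_iff_le_normalizer hP).1 this
  refine ⟨mem_centralizer_singleton_iff.2 hcz, ?_⟩
  refine mem_pPrimePCore_of_conj huu (mem_centralizer_singleton_iff.2 rfl) le_rfl
    (hC u (orderOf_of_mem h.elem hu hu1)) P _ fun q hq => ?_
  have hqK := mem_centralizer_singleton_iff.1 q.2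
  have hqP : (q : G) ∈ P' := mem_map_of_mem _ hq
  have hqz : (q : G) * z * (q : G)⁻¹ ∈ U :=
    hUZ (omegaCenter_normalized (hPT hqP) (h.le_omegaCenter hz))
  have hzi : z⁻¹ = z := inv_eq_of_mul_eq_one_right hzz
  rcases h.cases hz (ne_one_of_orderOf hz2) hu hu1 huz hqz with e | e | e | e
  · exact absurd (conj_eq_one_iff.1 e) (ne_one_of_orderOf hz2)
  · left
    rw [mul_inv_eq_iff_eq_mul] at e ⊢
    exact e.symm
  · exfalso
    rw [mul_inv_eq_iff_eq_mul, ← hqK] at e
    exact huz (mul_left_cancel e).symm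
  · right
    calc z * (q : G) * z⁻¹ = z * ((q : G) * z * (q : G)⁻¹) * q := by rw [hzi]; group
      _ = z * (u * z) * q := by rw [e]
      _ = z * (z * u) * q := by rw [hcz]
      _ = q * u := by rw [← mul_assoc, hzz, one_mul, hqK]

theorem FourFrame.centralizer_central_le {z : G} (hz : z ∈ U) (hz2 : orderOf z = 2)
    (hzc : ∀ s ∈ (S : Subgroup G), s * z = z * s) :
    centralizer ({z} : Set G) ≤ normalizer (coreJoin U : Set G) := by
  classical
  have : Fact (Nat.Prime 2) := ⟨Nat.prime_two⟩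
  set W := coreJoin U with hW
  have hzz : z * z = 1 := by rw [← pow_two]; exact h.elem.2 z hz
  have hzi : z⁻¹ = z := inv_eq_of_mul_eq_one_right hzz
  have hzcov : Covered S z := by
    obtain ⟨E, hES, hE, h4⟩ := h.big
    refine ⟨E ⊔ zpowers z, sup_le hES (zpowers_le.2 (h.le hz)),
      elemAb_sup hE (elemAb_zpowers (h.elem.2 z hz)) fun e he y hy => ?_,
      lt_of_lt_of_le h4 (card_le_of_le le_sup_left), mem_sup_right (mem_zpowers z)⟩
    obtain ⟨k, rfl⟩ := mem_zpowers_iff.1 hy
    exact ((show Commute e z from hzc e (hES he)).zpow_right k).eq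
  have hzfix : W ⊓ centralizer {z} = Cfsg.centralizerPPrimeCore 2 z := h.fixed_of_covered hC hz2 hzcov
  set K := centralizer ({z} : Set G) with hK
  have hSK : (S : Subgroup G) ≤ K := fun s hs => mem_centralizer_singleton_iff.2 (hzc s hs)
  set T0 := S.subtype hSK with hT0
  have hUQ : ∀ u ∈ U, ∀ huK : u ∈ K, (⟨u, huK⟩ : K) ∈ Cfsg.pPrimePCore 2 ↥K := by
    intro u hu huK
    refine mem_pPrimePCore_of_conj hzz (hSK (h.le hz)) le_rfl (hC z hz2) T0 huK fun q hq => ?_
    have hqS : (q : G) ∈ (S : Subgroup G) := hq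
    have huu : u * u = 1 := by rw [← pow_two]; exact h.elem.2 u hu
    have hui : u⁻¹ = u := inv_eq_of_mul_eq_one_right huu
    rcases eq_or_ne u 1 with rfl | hu1
    · left; group
    rcases eq_or_ne u z with rfl | huz
    · left; rw [← hzc _ hqS, mul_inv_cancel_right]
    have hqu : (q : G) * u * (q : G)⁻¹ ∈ U := (mem_normalizer_iff.1 (h.norm hqS) u).1 hu
    rcases h.cases hz (ne_one_of_orderOf hz2) hu hu1 huz hqu with e | e | e | e
    · exact absurd (conj_eq_one_iff.1 e) hu1
    · exfalso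
      rw [mul_inv_eq_iff_eq_mul, ← hzc _ hqS] at e
      exact huz (mul_left_cancel e)
    · left
      rw [mul_inv_eq_iff_eq_mul] at e ⊢
      exact e.symm
    · right
      calc u * (q : G) * u⁻¹ = u * ((q : G) * u * (q : G)⁻¹) * q := by rw [hui]; group
        _ = u * (u * z) * q := by rw [e]
        _ = q * z := by rw [← mul_assoc, huu, one_mul, hzc _ hqS]
  intro g hg
  set N := Cfsg.pPrimeCore 2 ↥K with hN
  have : N.Normal := Cfsg.pPrimeCore_normal 2 _
  set π := QuotientGroup.mk' N with hπ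
  set Q : Subgroup K := (T0 : Subgroup K) ⊓ Cfsg.pPrimePCore 2 K with hQ
  have hQn : (Q.map π).Normal := by
    rw [hQ, CfsgLib.PLocal.map_sylow_inf_pPrimePCore T0]
    exact Cfsg.pCore_normal 2 _
  obtain ⟨n, hn, hnx⟩ := CfsgLib.PLocal.exists_mul_mem_normalizer (N := N)
    CfsgLib.PCore.pPrimeCore_coprime (T0.isPGroup'.to_le (inf_le_left : Q ≤ _)) (x := ⟨g, hg⟩)
    fun y hy => by
      rw [map_mul, map_mul, map_inv]
      exact hQn.conj_mem _ (mem_map_of_mem π hy) _
  have hnW : (n : G) ∈ normalizer (W : Set G) :=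
    le_normalizer ((hzfix.ge.trans inf_le_left) ⟨n, hn, rfl⟩)
  suffices hk : (n : G) * g ∈ normalizer (W : Set G) by
    simpa using mul_mem (inv_mem hnW) hk
  set k : G := (n : G) * g with hkdef
  have hkK : k ∈ K := K.mul_mem n.2 hg
  have hkz : k * z = z * k := mem_centralizer_singleton_iff.1 hkK
  set A := U.map (MulAut.conj k).toMonoidHom with hA
  have hAS : A ≤ (S : Subgroup G) := by
    rintro _ ⟨u, hu, rfl⟩
    have h1 := ((mem_normalizer_iff.1 hnx ⟨u, hSK (h.le hu)⟩).1
      ⟨h.le hu, hUQ u hu _⟩).1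
    exact h1
  have hle : W ≤ coreJoin A := by
    have : IsMulCommutative A := (CfsgLib.OddOrder.elemAb_map h.elem _).1
    have hAc : Nat.card A = 4 := by
      rw [hA, card_map_of_injective (MulAut.conj k).injective, h.card]
    have hncyc : ¬ IsCyclic A := fun hcyc => by
      have := hcyc
      obtain ⟨a, ha⟩ := IsCyclic.exists_generator (α := A)
      have h1 : Nat.card A ≤ 2 := by
        rw [← orderOf_eq_card_of_forall_mem_zpowers ha]
        exact Nat.le_of_dvd two_pos (orderOf_dvd_of_pow_eq_one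
          (show a ^ 2 = 1 from Subtype.ext (by
            simpa using (CfsgLib.OddOrder.elemAb_map h.elem (MulAut.conj k).toMonoidHom).2 _ a.2)))
      omega
    rw [← CfsgLib.CoprimeGeneration.iSup_centralizer_eq A W hncyc
      (hAS.trans h.le_normalizer_coreJoin)
      (by rw [hAc]; exact (h.odd_coreJoin hC).coprime_two_left.pow_left 2)]
    refine iSup₂_le fun y hy => ?_
    obtain ⟨⟨u, hu, rfl⟩, hy1⟩ := hy
    refine le_trans ?_ (le_coreJoin (mem_map_of_mem _ hu) hy1)
    change W ⊓ centralizer {k * u * k⁻¹} ≤ Cfsg.centralizerPPrimeCore 2 (k * u * k⁻¹)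
    have hu1 : u ≠ 1 := fun e => hy1 (by rw [e, map_one])
    rcases eq_or_ne u z with e | huz
    · rw [e, hkz, mul_inv_cancel_right, hzfix]
    obtain ⟨hzKu, hzQ⟩ := h.central_mem_pPrimePCore hC hUZ hz hz2 hzc hu hu1 huz
    set y := k * u * k⁻¹ with hydef
    have hy2 : orderOf y = 2 := by rw [conj_order]; exact orderOf_of_mem h.elem hu hu1
    have hzu : z * u = u * z := commute_of_elemAb h.elem hz hu
    have hzy : z * y = y * z := by
      calc z * y = (z * k) * u * k⁻¹ := by rw [hydef]; group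
        _ = k * (z * u) * k⁻¹ := by rw [← hkz]; group
        _ = k * u * (z * k⁻¹) := by rw [hzu]; group
        _ = y * z := by
          rw [show z * k⁻¹ = k⁻¹ * (k * z) * k⁻¹ by group, hkz, hydef]; group
    have hzW : z ∈ normalizer (W : Set G) := h.le_normalizer_coreJoin (h.le hz)
    have hzyC : z ∈ centralizer ({y} : Set G) := mem_centralizer_singleton_iff.2 hzy
    set Y := W ⊓ centralizer ({y} : Set G) with hY
    have hYodd : Odd (Nat.card Y) :=
      Odd.of_dvd_nat (h.odd_coreJoin hC) (card_dvd_of_le inf_le_left)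
    have hzY : ∀ w ∈ Y, z * w * z⁻¹ ∈ Y := fun w hw =>
      ⟨(mem_normalizer_iff.1 hzW w).1 hw.1, (centralizer _).mul_mem
        ((centralizer _).mul_mem hzyC hw.2) ((centralizer _).inv_mem hzyC)⟩
    intro w hw
    have hcomm : z * w * z⁻¹ * w⁻¹ ∈ Cfsg.centralizerPPrimeCore 2 y := by
      have h1 := commutator_mem_core hzKu hzQ (Y := Y.map (MulAut.conj k⁻¹).toMonoidHom)
        (by rw [card_map_of_injective (MulAut.conj k⁻¹).injective]; exact hYodd)
        (by
          rintro _ ⟨v, hv, rfl⟩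
          have e1 := mem_centralizer_singleton_iff.1 hv.2
          rw [mem_centralizer_singleton_iff]
          show k⁻¹ * v * k⁻¹⁻¹ * u = u * (k⁻¹ * v * k⁻¹⁻¹)
          calc k⁻¹ * v * k⁻¹⁻¹ * u = k⁻¹ * (v * y) * k := by rw [hydef]; group
            _ = k⁻¹ * (y * v) * k := by rw [e1]
            _ = u * (k⁻¹ * v * k⁻¹⁻¹) := by rw [hydef]; group)
        (by
          rintro _ ⟨v, hv, rfl⟩
          refine ⟨z * v * z⁻¹, hzY v hv, ?_⟩
          show k⁻¹ * (z * v * z⁻¹) * k⁻¹⁻¹ = z * (k⁻¹ * v * k⁻¹⁻¹) * z⁻¹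
          have e2 : k⁻¹ * z = z * k⁻¹ := by
            rw [show z * k⁻¹ = k⁻¹ * (k * z) * k⁻¹ by group, hkz]; group
          calc k⁻¹ * (z * v * z⁻¹) * k⁻¹⁻¹ = (k⁻¹ * z) * v * (k⁻¹ * z)⁻¹ := by group
            _ = z * (k⁻¹ * v * k⁻¹⁻¹) * z⁻¹ := by rw [e2]; group)
        (y := k⁻¹ * w * k⁻¹⁻¹) (mem_map_of_mem _ hw)
      have h2 := mem_map_of_mem (MulAut.conj k).toMonoidHom h1
      rw [map_core_eq] at h2
      convert h2 using 1
      show _ = k * _ * k⁻¹
      have e2 : k * z * k⁻¹ = z := by rw [hkz, mul_inv_cancel_right]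
      calc z * w * z⁻¹ * w⁻¹ = (k * z * k⁻¹) * w * (k * z * k⁻¹)⁻¹ * w⁻¹ := by rw [e2]
        _ = _ := by group
    set N0 := Cfsg.centralizerPPrimeCore 2 y ⊓ W with hN0
    have hzN0 : ∀ m ∈ N0, z * m * z⁻¹ ∈ N0 := fun m hm =>
      ⟨(mem_normalizer_iff.1 (mem_normalizer_core hzy) m).1 hm.1, (mem_normalizer_iff.1 hzW m).1 hm.2⟩
    have hc0 : z * w * z⁻¹ * w⁻¹ ∈ N0 :=
      ⟨hcomm, W.mul_mem ((mem_normalizer_iff.1 hzW w).1 hw.1) (W.inv_mem hw.1)⟩
    let σ : N0 → N0 := fun m => ⟨z * m * z⁻¹ * (z * w * z⁻¹ * w⁻¹), N0.mul_mem (hzN0 m m.2) hc0⟩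
    have hσ : Function.Involutive σ := fun m => Subtype.ext (by
      show z * (z * m * z⁻¹ * (z * w * z⁻¹ * w⁻¹)) * z⁻¹ * (z * w * z⁻¹ * w⁻¹) = m
      calc _ = (z * z) * m * (z⁻¹ * z⁻¹) * ((z * z) * w * (z⁻¹ * z⁻¹)) * w⁻¹ := by group
        _ = m := by rw [hzi, hzz]; group)
    letI : Fintype N0 := Fintype.ofFinite _
    obtain ⟨m, hm⟩ := Equiv.Perm.exists_fixed_point_of_prime (p := 2) (n := 1)
      (σ := hσ.toPerm σ) (by
        rw [← Nat.card_eq_fintype_card, ← even_iff_two_dvd, Nat.not_even_iff_odd]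
        exact Odd.of_dvd_nat (h.odd_coreJoin hC) (card_dvd_of_le inf_le_right))
      (by
        ext m
        simp [pow_two, hσ m])
    have hm' : z * (m : G) * z⁻¹ * (z * w * z⁻¹ * w⁻¹) = m := congrArg Subtype.val hm
    have hmw : (m : G) * w ∈ W ⊓ centralizer {z} := by
      refine ⟨W.mul_mem m.2.2 hw.1, mem_centralizer_singleton_iff.2 ?_⟩
      have e3 : z * ((m : G) * w) * z⁻¹ = m * w := by
        calc z * ((m : G) * w) * z⁻¹ = z * (m : G) * z⁻¹ * (z * w * z⁻¹ * w⁻¹) * w := by group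
          _ = m * w := by rw [hm']
      exact (mul_inv_eq_iff_eq_mul.1 e3).symm
    rw [hzfix] at hmw
    have hmy : (m : G) * w ∈ centralizer ({y} : Set G) :=
      (centralizer _).mul_mem (core_le_centralizer y m.2.1) hw.2
    have h3 := core_balance (CfsgLib.Components.isPGroup_zpowers hz2) (ne_one_of_orderOf hz2) hzy
      (hC.layer y hy2) ⟨hmw, hmy⟩
    simpa using Subgroup.mul_mem _ (Subgroup.inv_mem _ m.2.1) h3
  have hWk : W.map (MulAut.conj k).toMonoidHom = W := by
    refine (eq_of_le_of_card_ge ?_ ?_).symm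
    · rw [hW, map_coreJoin]
      exact hle
    · rw [card_map_of_injective (MulAut.conj k).injective]
  refine CfsgLib.Coprime.mem_normalizer_of_forall_conj fun w hw => ?_
  rw [← hWk]
  exact mem_map_of_mem _ hw

/-- No involution is isolated. -/
theorem FourFrame.allCovered_of_omega (hO2 : ∀ N : Subgroup G, N.Normal → N.index ≠ 2) :
    AllCovered S U := by
  classical
  have : Fact (Nat.Prime 2) := ⟨Nat.prime_two⟩
  obtain ⟨z, hz, hz2, hzc⟩ := h.exists_central
  set M := normalizer (coreJoin U : Set G) with hM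
  have hCz := h.centralizer_central_le hC hUZ hz hz2 hzc
  by_contra hno
  have hne : {a : G | a ∈ (S : Subgroup G) ∧ orderOf a = 2 ∧
      ∀ m ∈ M, ¬ Covered S (m * a * m⁻¹)}.Nonempty := by
    by_contra hempty
    refine hno fun a ha ha2 => ?_
    by_contra hnc
    exact hempty ⟨a, ha, ha2, fun m hm hc => hnc ⟨m, hm, hc⟩⟩
  obtain ⟨a, ⟨haS, ha2, hbad⟩, hmax⟩ := Set.exists_max_image _
    (fun a => Nat.card ((S : Subgroup G) ⊓ centralizer ({a} : Set G) : Subgroup G))
    (Set.toFinite _) hne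
  have hbad1 : ¬ Covered S a := by simpa using hbad 1 M.one_mem
  have haa : a * a = 1 := by rw [← pow_two, ← ha2, pow_orderOf_eq_one]
  have haT : a ∉ tT S U := fun hT => hbad1 (h.covered_of_mem_tT hT ha2)
  have hidx : (tT S U).relIndex (S : Subgroup G) = 2 := by
    have h1 := h.relIndex_le
    have h2 : (tT S U).relIndex (S : Subgroup G) ≠ 1 := fun e => haT (relIndex_eq_one.1 e haS)
    have h3 : (tT S U).relIndex (S : Subgroup G) ≠ 0 := FiniteIndex.index_ne_zero
    omega
  -- `a` has a conjugate in `T`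
  obtain ⟨g, hgS, hgT⟩ : ∃ g : G, g * a * g⁻¹ ∈ (S : Subgroup G) ∧ g * a * g⁻¹ ∈ tT S U := by
    by_contra hcl
    push Not at hcl
    obtain ⟨N, hN, hNi, -⟩ := CfsgLib.Transfer.thompson_transfer S (tT S U) hidx a
      (by rw [pow_two]; exact haa) hcl
    exact hO2 N hN hNi
  obtain ⟨E, -, hE, hE4, hgE⟩ := h.covered_of_mem_tT hgT (by rw [conj_order, ha2])
  set D := (S : Subgroup G) ⊓ centralizer ({a} : Set G) with hD
  have haD : a ∈ D := ⟨haS, mem_centralizer_singleton_iff.2 rfl⟩
  have hzD : z ∈ D := ⟨h.le hz, mem_centralizer_singleton_iff.2 (hzc a haS).symm⟩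
  have hzT : z ∈ tT S U := h.le_tT hz
  have hDp : IsPGroup 2 D := S.2.to_le inf_le_left
  have hsqT : ∀ y ∈ (S : Subgroup G), y * y ∈ tT S U := fun y hy => by
    have := Subgroup.mul_self_mem_of_index_two (show ((tT S U).subgroupOf (S : Subgroup G)).index = 2
      from hidx) ⟨y, hy⟩
    simpa [mem_subgroupOf] using this
  -- `z` is the only involution of `D ∩ T`
  have huniq : ∀ w ∈ D, w ∈ tT S U → orderOf w = 2 → w = z := by
    intro w hwD hwT hw2
    by_contra hwz
    have haw : a * w = w * a := (mem_centralizer_singleton_iff.1 hwD.2).symm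
    have hAz : Cfsg.IsElementaryAbelian 2 (zpowers a ⊔ zpowers z : Subgroup G) :=
      elemAb_sup (elemAb_zpowers (ha2 ▸ pow_orderOf_eq_one a))
        (elemAb_zpowers (hz2 ▸ pow_orderOf_eq_one z)) fun b hb c hc => by
          obtain ⟨i, rfl⟩ := mem_zpowers_iff.1 hb
          obtain ⟨j, rfl⟩ := mem_zpowers_iff.1 hc
          exact (Commute.zpow_zpow (hzc a haS) i j).eq
    have hwc : ∀ b ∈ (zpowers a ⊔ zpowers z : Subgroup G), b * w = w * b := fun b hb => by
      have hle : (zpowers a ⊔ zpowers z : Subgroup G) ≤ centralizer ({w} : Set G) :=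
        sup_le (zpowers_le.2 (mem_centralizer_singleton_iff.2 haw))
          (zpowers_le.2 (mem_centralizer_singleton_iff.2 (hzc w hwD.1).symm))
      exact mem_centralizer_singleton_iff.1 (hle hb)
    refine hbad1 ⟨zpowers a ⊔ zpowers z ⊔ zpowers w,
      sup_le (sup_le (zpowers_le.2 haS) (zpowers_le.2 (h.le hz))) (zpowers_le.2 hwD.1),
      elemAb_sup hAz (elemAb_zpowers (hw2 ▸ pow_orderOf_eq_one w)) fun b hb c hc => ?_, ?_,
      mem_sup_left (mem_sup_left (mem_zpowers a))⟩
    · obtain ⟨j, rfl⟩ := mem_zpowers_iff.1 hc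
      exact ((show Commute b w from hwc b hb).zpow_right j).eq
    have hlt1 : zpowers z < zpowers a ⊔ zpowers z := lt_of_le_of_ne le_sup_right fun e => by
      have h1 : a ∈ zpowers z := e ▸ mem_sup_left (mem_zpowers a)
      exact haT (zpowers_le.2 hzT h1)
    have hlt2 : zpowers a ⊔ zpowers z < zpowers a ⊔ zpowers z ⊔ zpowers w :=
      lt_of_le_of_ne le_sup_left fun e => by
        have h1 : w ∈ zpowers z ⊔ zpowers a := by
          rw [sup_comm]; exact e ▸ mem_sup_right (mem_zpowers w)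
        obtain ⟨c, hc, d, hd, hcd⟩ := CfsgLib.Coprime.exists_mul_of_mem_sup
          (zpowers_le.2 (mem_normalizer_iff.2 fun v => by
            constructor
            · intro hv
              obtain ⟨i, rfl⟩ := mem_zpowers_iff.1 hv
              rw [((show Commute z a from (hzc a haS).symm).zpow_right i).eq, mul_inv_cancel_right]
              exact zpow_mem (mem_zpowers a) i
            · intro hv
              obtain ⟨i, hi⟩ := mem_zpowers_iff.1 hv
              have : v = a ^ i := by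
                rw [show v = z⁻¹ * (z * v * z⁻¹) * z by group, ← hi, mul_assoc,
                  ← ((show Commute z a from (hzc a haS).symm).zpow_right i).eq, inv_mul_cancel_left]
              rw [this]
              exact zpow_mem (mem_zpowers a) i)) h1
        have hdT : d ∈ tT S U := by
          have h2 : c⁻¹ * w ∈ tT S U :=
            (tT S U).mul_mem ((tT S U).inv_mem (zpowers_le.2 hzT hc)) hwT
          rwa [hcd, inv_mul_cancel_left] at h2
        obtain ⟨i, rfl⟩ := mem_zpowers_iff.1 hd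
        rw [← zpow_mod_orderOf, ha2, Nat.cast_ofNat] at hdT hcd
        rcases Int.emod_two_eq_zero_or_one i with ei | ei
        · rw [ei, zpow_zero, mul_one] at hcd
          obtain ⟨j, rfl⟩ := mem_zpowers_iff.1 hc
          rw [← zpow_mod_orderOf, hz2, Nat.cast_ofNat] at hcd
          rcases Int.emod_two_eq_zero_or_one j with ej | ej
          · rw [ej, zpow_zero] at hcd
            exact ne_one_of_orderOf hw2 hcd
          · rw [ej, zpow_one] at hcd
            exact hwz hcd
        · rw [ei, zpow_one] at hdT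
          exact haT hdT
    have hc1 : Nat.card (zpowers z) < Nat.card (zpowers a ⊔ zpowers z : Subgroup G) :=
      lt_of_le_of_ne (card_le_of_le hlt1.le) fun e => hlt1.ne (eq_of_le_of_card_ge hlt1.le e.ge)
    have hc2 : Nat.card (zpowers a ⊔ zpowers z : Subgroup G) <
        Nat.card (zpowers a ⊔ zpowers z ⊔ zpowers w : Subgroup G) :=
      lt_of_le_of_ne (card_le_of_le hlt2.le) fun e => hlt2.ne (eq_of_le_of_card_ge hlt2.le e.ge)
    obtain ⟨i, hi⟩ := IsPGroup.iff_card.1 (isPGroup_of_elemAb hAz)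
    rw [Nat.card_zpowers, hz2] at hc1
    rcases (show i ≤ 1 ∨ 2 ≤ i by omega) with hi1 | hi1
    · have := Nat.pow_le_pow_right two_pos hi1
      omega
    · have := Nat.pow_le_pow_right two_pos hi1
      omega
  by_cases hex : ∃ y ∈ D, y * y ≠ 1
  · -- a Sylow 2-subgroup of `C(a)` properly contains `D`
    obtain ⟨P, hP⟩ := exists_le_sylow_in hDp (inf_le_right : D ≤ centralizer ({a} : Set G))
    set D' := (P : Subgroup ↥(centralizer ({a} : Set G))).map
      (centralizer ({a} : Set G)).subtype with hD'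
    have hD'p : IsPGroup 2 D' := P.isPGroup'.map _
    have hlt : D < D' := lt_of_le_of_ne hP fun e => by
      set E' := E.map (MulAut.conj g⁻¹).toMonoidHom with hE'
      have hE'e : Cfsg.IsElementaryAbelian 2 E' := CfsgLib.OddOrder.elemAb_map hE _
      have haE' : a ∈ E' := ⟨g * a * g⁻¹, hgE, by simp [mul_assoc]⟩
      have hE'C : E' ≤ centralizer ({a} : Set G) := fun v hv =>
        mem_centralizer_singleton_iff.2 (commute_of_elemAb hE'e hv haE')
      obtain ⟨P', hP'⟩ := exists_le_sylow_in (isPGroup_of_elemAb hE'e) hE'C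
      obtain ⟨c, hc⟩ := MulAction.exists_smul_eq ↥(centralizer ({a} : Set G)) P' P
      refine hbad1 ⟨E'.map (MulAut.conj (c : G)).toMonoidHom, ?_,
        CfsgLib.OddOrder.elemAb_map hE'e _, ?_, ?_⟩
      · rintro _ ⟨v, hv, rfl⟩
        obtain ⟨v', hv', rfl⟩ := hP' hv
        have h1 : c * v' * c⁻¹ ∈ (P : Subgroup ↥(centralizer ({a} : Set G))) := by
          rw [← hc, Sylow.coe_subgroup_smul]
          exact smul_mem_pointwise_smul _ _ _ hv'
        have h2 : ((c * v' * c⁻¹ : ↥(centralizer ({a} : Set G))) : G) ∈ D :=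
          e.ge (mem_map_of_mem _ h1)
        exact h2.1
      · rw [card_map_of_injective (MulAut.conj (c : G)).injective, hE',
          card_map_of_injective (MulAut.conj g⁻¹).injective]
        exact hE4
      · refine ⟨a, haE', ?_⟩
        show (c : G) * a * (c : G)⁻¹ = a
        rw [mem_centralizer_singleton_iff.1 c.2, mul_inv_cancel_right]
    obtain ⟨d, hdD', hdD, hdN⟩ := CfsgLib.Involutions.exists_mem_normalizer_notMem hD'p hlt
    -- `z` is a square in `D`
    obtain ⟨r, hrD, hr⟩ : ∃ r ∈ D, r * r = z := by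
      obtain ⟨y, hyD, hy⟩ := hex
      obtain ⟨i, hi⟩ := IsPGroup.iff_orderOf.1 hDp ⟨y, hyD⟩
      rw [← Subgroup.orderOf_coe] at hi
      change orderOf y = 2 ^ i at hi
      obtain ⟨i, rfl⟩ : ∃ j, i = j + 2 := by
        rcases i with _ | _ | j
        · exact absurd (by rw [orderOf_eq_one_iff.1 (hi.trans (pow_zero _)), mul_one]) hy
        · exact absurd (by rw [← pow_two, show (2 : ℕ) = orderOf y by rw [hi]; rfl,
            pow_orderOf_eq_one]) hy
        · exact ⟨j, rfl⟩
      refine ⟨y ^ 2 ^ i, pow_mem hyD _, ?_⟩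
      refine huniq _ (D.mul_mem (pow_mem hyD _) (pow_mem hyD _)) (hsqT _ (pow_mem hyD.1 _)) ?_
      rw [← pow_two, ← pow_mul, orderOf_pow, hi, show 2 ^ i * 2 = 2 ^ (i + 1) from (pow_succ 2 i).symm,
        Nat.gcd_eq_right (pow_dvd_pow 2 (Nat.le_succ _)), pow_succ 2 (i + 1),
        Nat.mul_div_cancel_left _ (pow_pos two_pos _)]
    have hdz : d * z * d⁻¹ = z := by
      have h1 : d * r * d⁻¹ ∈ D := (mem_normalizer_iff.1 hdN r).1 hrD
      rw [show d * z * d⁻¹ = (d * r * d⁻¹) * (d * r * d⁻¹) by rw [← hr]; group]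
      refine huniq _ (D.mul_mem h1 h1) (hsqT _ h1.1) ?_
      rw [show (d * r * d⁻¹) * (d * r * d⁻¹) = d * z * d⁻¹ by rw [← hr]; group, conj_order, hz2]
    have hdM : d ∈ M := hCz (mem_centralizer_singleton_iff.2 (mul_inv_eq_iff_eq_mul.1 hdz))
    set D'' := D ⊔ zpowers d with hD''
    have hD''le : D'' ≤ D' := sup_le hP (zpowers_le.2 hdD')
    have hD''M : D'' ≤ M := sup_le (inf_le_left.trans h.le_normalizer_coreJoin) (zpowers_le.2 hdM)
    obtain ⟨R, hR⟩ := ((hD'p.to_le hD''le).comap_subtype (K := M)).exists_le_sylow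
    obtain ⟨m, hm⟩ := MulAction.exists_smul_eq M R (S.subtype h.le_normalizer_coreJoin)
    have hmS : ∀ v ∈ D'', (m : G) * v * (m : G)⁻¹ ∈ (S : Subgroup G) := fun v hv => by
      have h1 : m * ⟨v, hD''M hv⟩ * m⁻¹ ∈
          ((S.subtype h.le_normalizer_coreJoin : Sylow 2 M) : Subgroup M) := by
        rw [← hm, Sylow.coe_subgroup_smul]
        exact smul_mem_pointwise_smul _ _ _
          (hR (show (⟨v, hD''M hv⟩ : M) ∈ D''.comap M.subtype from hv))
      simpa [Sylow.coe_subtype, mem_subgroupOf] using h1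
    have hmax' := hmax ((m : G) * a * (m : G)⁻¹) ⟨hmS a (mem_sup_left haD),
      by rw [conj_order, ha2], fun m' hm' hc => hbad (m' * m) (M.mul_mem hm' m.2) (by
        simpa [mul_assoc] using hc)⟩
    have hle : D''.map (MulAut.conj (m : G)).toMonoidHom ≤
        (S : Subgroup G) ⊓ centralizer {(m : G) * a * (m : G)⁻¹} := by
      rintro _ ⟨v, hv, rfl⟩
      refine ⟨hmS v hv, mem_centralizer_singleton_iff.2 ?_⟩
      obtain ⟨v', -, hv'⟩ := hD''le hv
      have hva : v * a = a * v := hv' ▸ mem_centralizer_singleton_iff.1 v'.2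
      calc (m : G) * v * (m : G)⁻¹ * ((m : G) * a * (m : G)⁻¹) = m * (v * a) * (m : G)⁻¹ := by
            group
        _ = m * (a * v) * (m : G)⁻¹ := by rw [hva]
        _ = m * a * (m : G)⁻¹ * (m * v * (m : G)⁻¹) := by group
    have hlt' : Nat.card D < Nat.card D'' := by
      have hlt2 : D < D'' := lt_of_le_of_ne le_sup_left fun e =>
        hdD (e ▸ mem_sup_right (mem_zpowers d))
      exact lt_of_le_of_ne (card_le_of_le hlt2.le) fun e =>
        hlt2.ne (eq_of_le_of_card_ge hlt2.le e.ge)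
    have h1 := card_le_of_le hle
    rw [card_map_of_injective (MulAut.conj (m : G)).injective] at h1
    omega
  -- `C_S(a)` is a four-group
  push Not at hex
  have hDe : Cfsg.IsElementaryAbelian 2 D := elemAb_of_sq hex
  have hD4 : Nat.card D = 4 := by
    have hle : Nat.card D ≤ 4 := by
      by_contra h5
      exact hbad1 ⟨D, inf_le_left, hDe, by omega, haD⟩
    obtain ⟨i, hi⟩ := IsPGroup.iff_card.1 hDp
    have hlt : zpowers z < D := lt_of_le_of_ne (zpowers_le.2 hzD) fun e =>
      haT (zpowers_le.2 hzT (e ▸ haD))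
    have h1 : Nat.card (zpowers z) < Nat.card D :=
      lt_of_le_of_ne (card_le_of_le hlt.le) fun e => hlt.ne (eq_of_le_of_card_ge hlt.le e.ge)
    rw [Nat.card_zpowers, hz2] at h1
    rw [hi] at h1 hle ⊢
    rcases i with _ | _ | _ | i
    · simp at h1
    · simp at h1
    · rfl
    · have : 2 ^ 3 ≤ 2 ^ (i + 3) := Nat.pow_le_pow_right two_pos (by omega)
      omega
  set D₀ := D.subgroupOf (S : Subgroup G) with hD₀
  have hD₀c : centralizer (D₀ : Set ↥(S : Subgroup G)) = D₀ := by
    refine le_antisymm (fun q hq => ⟨q.2, mem_centralizer_singleton_iff.2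
      (congrArg Subtype.val (mem_centralizer_iff.1 hq ⟨a, haS⟩ haD)).symm⟩) fun q hq => ?_
    rw [mem_centralizer_iff]
    exact fun v hv => Subtype.ext (commute_of_elemAb hDe hv hq)
  have hshape := CfsgLib.CIT.shape_of_self_four S.2 D₀
    (by rw [Nat.card_congr (subgroupOfEquivOfLe (inf_le_left : D ≤ (S : Subgroup G))).toEquiv]; exact hD4)
    (fun v hv => Subtype.ext (hex _ hv)) hD₀c
  have hrk : Cfsg.PRankLE 2 2 ↥(S : Subgroup G) := by
    rcases hshape with ⟨k, -, ⟨e⟩⟩ | ⟨k, -, hcard, x, -, hx, -, -⟩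
    · have : NeZero (2 ^ k) := ⟨(pow_pos two_pos k).ne'⟩
      refine CfsgLib.PGroup39.pRankLE_two_of_cyclic_index_two (e.symm (DihedralGroup.r 1)) ?_
      rw [e.symm.orderOf_eq, DihedralGroup.orderOf_r_one, Nat.card_congr e.toEquiv,
        Nat.card_eq_fintype_card, DihedralGroup.card]
    · exact CfsgLib.PGroup39.pRankLE_two_of_cyclic_index_two x (by rw [hcard, hx, pow_succ']; )
  obtain ⟨F, hFS, hF, hF4⟩ := h.big
  have := hrk (F.subgroupOf S) ⟨⟨fun a b => Subtype.ext (Subtype.ext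
    (commute_of_elemAb hF a.2 b.2))⟩⟩ (fun a ha => Subtype.ext (hF.2 _ ha))
  rw [Nat.card_congr (subgroupOfEquivOfLe hFS).toEquiv] at this
  norm_num at this
  omega

end Stage

theorem FourFrame.allCovered (h : FourFrame S U) (hC : ConstrainedCentralizers G)
    (hO2 : ∀ N : Subgroup G, N.Normal → N.index ≠ 2) : AllCovered S U := by
  by_cases hUZ : omegaCenter (tT S U) ≤ U
  · exact h.allCovered_of_omega hC hUZ hO2
  refine allCovered_of_normal (V := omegaCenter (tT S U)) (fun v hv => hv.1.1)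
    ⟨⟨⟨fun a b => Subtype.ext (b.2.2.2 a a.2.1)⟩⟩, fun v hv => hv.2.1⟩ ?_
    fun s hs => CfsgLib.Coprime.mem_normalizer_of_forall_conj fun v hv =>
      omegaCenter_normalized (h.normalizer_tT hs) hv
  have hlt : U < omegaCenter (tT S U) :=
    lt_of_le_of_ne h.le_omegaCenter fun e => hUZ e.ge
  rw [← h.card]
  exact lt_of_le_of_ne (card_le_of_le hlt.le) fun e => hlt.ne (eq_of_le_of_card_ge hlt.le e.ge)

end CfsgLib.CoreKill
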