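import Cfsg.Agent.Lib.PLocal.Constraint
import Cfsg.Agent.Lib.SignalizerConn42
import Cfsg.Agent.Lib.TwoGroups.OneInvolution
import Cfsg.Agent.Lib.TwoGroups.SmallEightSolvable
import Cfsg.Agent.Lib.Fusion.DihedralTop
import Cfsg.Agent.Lib.RankTwoUnique.DS
import Cfsg.Agent.Lib.Involutions.BrauerSuzuki
import Cfsg.Agent.Lib.LocalEvenSix.Lattice

/-!
If a group of characteristic 2 has an elementary abelian subgroup of order 8, then its largest normal
2-subgroup has 2-rank at least 2.
-/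

set_option autoImplicit false

namespace CfsgLib.CoreKill

open Subgroup CfsgLib.SignalizerConn42
open CfsgLib.LocalEvenCharP (IsCharP)

variable {C : Type*} [Group C] [Finite C]

theorem exists_four_le_pCore (hC : IsCharP 2 C) {E : Subgroup C}
    (hE : Cfsg.IsElementaryAbelian 2 E) (h8 : 4 < Nat.card E) :
    ∃ F : Subgroup C, F ≤ Cfsg.pCore 2 C ∧ Cfsg.IsElementaryAbelian 2 F ∧ 2 < Nat.card F := by
  classical
  have : Fact (Nat.Prime 2) := ⟨Nat.prime_two⟩
  set Q := Cfsg.pCore 2 C with hQdef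
  have : Q.Normal := Cfsg.pCore_normal 2 C
  have hQp : IsPGroup 2 Q := CfsgLib.PCore.pCore_isPGroup
  by_contra hno
  push Not at hno
  have huniq : ∀ a b : Q, orderOf a = 2 → orderOf b = 2 → Commute a b → a = b := by
    intro a b ha hb hab
    by_contra hne
    have ha' : (a : C) ^ 2 = 1 := by rw [← SubmonoidClass.coe_pow, ← ha, pow_orderOf_eq_one]; rfl
    have hb' : (b : C) ^ 2 = 1 := by rw [← SubmonoidClass.coe_pow, ← hb, pow_orderOf_eq_one]; rfl
    have hsup : Cfsg.IsElementaryAbelian 2 (zpowers (a : C) ⊔ zpowers (b : C) : Subgroup C) :=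
      elemAb_sup (elemAb_zpowers ha') (elemAb_zpowers hb') fun u hu v hv => by
        obtain ⟨i, rfl⟩ := mem_zpowers_iff.1 hu
        obtain ⟨j, rfl⟩ := mem_zpowers_iff.1 hv
        exact (Commute.zpow_zpow (congrArg Subtype.val hab.eq) i j).eq
    have h2 := hno _ (sup_le (zpowers_le.2 a.2) (zpowers_le.2 b.2)) hsup
    have h3 : zpowers (a : C) = zpowers (a : C) ⊔ zpowers (b : C) :=
      eq_of_le_of_card_ge le_sup_left (by rw [Nat.card_zpowers, Subgroup.orderOf_coe, ha]; exact h2)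
    have hb1 : (b : C) ∈ zpowers (a : C) := by rw [h3]; exact mem_sup_right (mem_zpowers _)
    obtain ⟨i, hi⟩ := mem_zpowers_iff.1 hb1
    rw [← zpow_mod_orderOf, Subgroup.orderOf_coe, ha] at hi
    rcases Int.emod_two_eq_zero_or_one i with e | e
    · have h1 : (1 : C) = (b : C) := by rw [← hi]; norm_num [e]
      have : b = 1 := Subtype.ext h1.symm
      rw [this, orderOf_one] at hb; omega
    · exact hne (Subtype.ext (by rw [← hi]; norm_num [e]))
  have huniq' : ∀ a b : Q, orderOf a = 2 → orderOf b = 2 → a = b := by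
    intro a b ha hb
    have := CfsgLib.Involutions.unique_involution_of_rank_one huniq
      (hQp.to_subgroup (⊤ : Subgroup Q) |>.to_le le_rfl) ⟨a, mem_top a⟩ ⟨b, mem_top b⟩
      (by rw [Subgroup.orderOf_mk]; exact ha) (by rw [Subgroup.orderOf_mk]; exact hb)
    exact congrArg Subtype.val this
  have hEQ : Nat.card (E ⊓ Q : Subgroup C) ≤ 2 :=
    hno _ inf_le_right ⟨⟨⟨fun u v => Subtype.ext
      (congrArg Subtype.val (hE.1.is_comm.comm ⟨u, u.2.1⟩ ⟨v, v.2.1⟩) :)⟩⟩, fun u hu => hE.2 u hu.1⟩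
  -- a bound on the order of `C`
  have hbound : IsPGroup 2 (MulAut Q) → False := by
    intro hA
    obtain ⟨k, hk⟩ := IsPGroup.iff_card.1 hA
    have h1 := CfsgLib.TwoGroups.SmallEight.card_dvd_of_self_centralizing (T := Q) (2 ^ k) hk.dvd
    obtain ⟨j, hj⟩ := IsPGroup.iff_card.1 (hQp.to_le hC)
    rw [hj, ← pow_add] at h1
    obtain ⟨i, -, hi⟩ := (Nat.dvd_prime_pow Nat.prime_two).1 h1
    have htop : Q = ⊤ := top_le_iff.1
      (CfsgLib.PCore.le_pCore (inferInstance : (⊤ : Subgroup C).Normal)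
        (IsPGroup.of_card (n := i) (by rw [Subgroup.card_top, hi])))
    rw [htop, inf_top_eq] at hEQ
    omega
  rcases CfsgLib.TwoGroups.OneInvolution.isCyclic_or_quaternion hQp huniq' with h | ⟨n, hn, ⟨e⟩⟩
  · have := h
    exact hbound (CfsgLib.RankTwoUnique.DS.isPGroup_mulAut_cyclic hQp)
  by_cases hn2 : 2 ≤ n
  · exact hbound ((CfsgLib.Fusion.isPGroup_mulAut_quaternion n hn2).of_equiv (MulAut.congr e).symm)
  obtain rfl : n = 1 := by omega
  rw [show (2 : ℕ) ^ 1 = 2 from rfl] at e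
  -- the quaternion group of order 8
  have hA : Nat.card (MulAut Q) = 24 :=
    (Nat.card_congr (MulAut.congr e).toEquiv).trans CfsgLib.TwoGroups.SmallEight.card_aut_q8
  have h1 := CfsgLib.TwoGroups.SmallEight.card_dvd_of_self_centralizing (T := Q) 24 hA.dvd
  have hZ : Nat.card (centralizer (Q : Set C)) ≤ 2 := by
    have hle : centralizer (Q : Set C) ≤ Q := hC
    rw [← CfsgLib.TwoGroups.SmallEight.q8_center, ← Nat.card_eq_fintype_card]
    refine Nat.card_le_card_of_injective
      (fun c : centralizer (Q : Set C) => (⟨e ⟨c, hle c.2⟩, fun w => ?_⟩ :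
        {q : QuaternionGroup 2 // ∀ w, w * q = q * w})) ?_
    · have h2 : e.symm w * ⟨c, hle c.2⟩ = ⟨c, hle c.2⟩ * e.symm w :=
        Subtype.ext (mem_centralizer_iff.1 c.2 _ (e.symm w).2)
      simpa using congrArg e h2
    · intro c d hcd
      exact Subtype.ext (congrArg Subtype.val (e.injective (congrArg Subtype.val hcd)) :)
  have hQ8 : Nat.card Q = 8 := by
    rw [Nat.card_congr e.toEquiv, Nat.card_eq_fintype_card, QuaternionGroup.card]
  have hsup := CfsgLib.LocalEvenSix.card_mul_card_le E Q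
  have hEQp : IsPGroup 2 (E ⊔ Q : Subgroup C) :=
    IsPGroup.to_sup_of_normal_right (fun u => ⟨1, Subtype.ext (by simpa using hE.2 _ u.2)⟩) hQp
  obtain ⟨i, hi⟩ := IsPGroup.iff_card.1 hEQp
  have h16 : Nat.card (E ⊔ Q : Subgroup C) ≤ 16 := by
    have h2 : 2 ^ i ∣ Nat.card C := hi ▸ (E ⊔ Q).card_subgroup_dvd_card
    have h4 : 2 ^ i ≤ 2 * 24 :=
      (Nat.le_of_dvd (Nat.mul_pos Nat.card_pos (by norm_num)) (h2.trans h1)).trans
        (Nat.mul_le_mul hZ le_rfl)
    rw [hi]
    by_contra h5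
    have h6 : 5 ≤ i := by
      by_contra h7
      exact h5 ((Nat.pow_le_pow_right two_pos (show i ≤ 4 by omega)).trans (by norm_num))
    have h7 : 2 ^ 5 ∣ Nat.card (centralizer (Q : Set C)) * 24 :=
      (pow_dvd_pow 2 h6).trans (h2.trans h1)
    rcases (show Nat.card (centralizer (Q : Set C)) = 1 ∨ Nat.card (centralizer (Q : Set C)) = 2 by
      have := Nat.card_pos (α := centralizer (Q : Set C)); omega) with e' | e' <;>
      rw [e'] at h7 <;> norm_num at h7
  obtain ⟨j, hj⟩ := IsPGroup.iff_card.1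
    (show IsPGroup 2 E from fun u => ⟨1, Subtype.ext (by simpa using hE.2 _ u.2)⟩)
  have h8' : 8 ≤ Nat.card E := by
    rw [hj] at h8 ⊢
    by_contra h
    have : j ≤ 2 := by
      by_contra h'
      exact h ((show 8 = 2 ^ 3 from rfl) ▸ Nat.pow_le_pow_right two_pos (by omega))
    have := Nat.pow_le_pow_right two_pos this
    omega
  rw [hQ8] at hsup
  have := hsup.trans (Nat.mul_le_mul h16 hEQ)
  omega

end CfsgLib.CoreKill
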